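import Groth.Agent.DefExtLib.Sheaf
import Groth.Agent.S12483
import Groth.Agent.S1486
import Groth.Agent.EtAlgEasy.OmegaSmooth3

/-! Extensions of the differentials by the structure sheaf as cohomology of the vector fields. -/

set_option autoImplicit false
set_option backward.isDefEq.respectTransparency false
set_option backward.isDefEq.respectTransparency.types false
set_option linter.style.haveILetI false

universe u

open CategoryTheory CategoryTheory.Limits AlgebraicGeometry TopologicalSpace Opposite ArtFun ArtFun.Art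

noncomputable section

namespace Groth.Agent.DefExtLib

open DefClassLib LocHilbGlueLib

variable {k : Type u} [Field k] {X : Scheme.{u}} (x : X ⟶ specPt k) [Smooth x] [IsSeparated x]

theorem isFinLocFree_omega : FlatMod.IsFinLocFree (Omega.sheaf x) := by
  have hfs : MoreMor.IsFormallySmoothHom x := (Groth.Agent.S1486.result x).2 fun U V hU hV hUV => by
    letI := (x.appLE V U hUV).hom.toAlgebra
    haveI : Algebra.Smooth Γ(specPt k, V) Γ(X, U) := RingHom.smooth_algebraMap.1 (x.smooth_appLE hV hU hUV)
    infer_instance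
  exact EtAlgEasy.OmegaSmooth.isFinLocFree_omega x hfs (OmegaUnivLib.isUniversal_dOmega x)

theorem hasSheafHom (M : X.Modules) : DCoh.HasSheafHom M := by
  haveI : ModSite.HasSheafHom (O := X.sheaf) M := ModTensor.hasSheafHom (O := X.sheaf) M
  exact ((ModSite.sheafHomAdj (O := X.sheaf) M).ofNatIsoLeft (ModTensor.tensorSymm X.sheaf M)).isLeftAdjoint

theorem nonempty_ext_derSh [HasExt.{u} X.Modules] (n : ℕ) :
    Nonempty (Abelian.Ext.{u} (Omega.sheaf x) (Coh.structureModule X) n ≃ Coh.HH X (derSh x (𝟙 X)) n) := by
  haveI := hasSheafHom (Omega.sheaf x)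
  letI : X.Over (Spec (CommRingCat.of k)) := ⟨x⟩
  obtain ⟨e⟩ := Groth.Agent.S12483.result X (Omega.sheaf x) (Coh.structureModule X) (isFinLocFree_omega x) n
  obtain ⟨e'⟩ := nonempty_derSh_iso x
  exact ⟨e.toEquiv.trans (BCLib.hhEquivL (A := k) e' n).toEquiv.symm⟩

end Groth.Agent.DefExtLib
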