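import Groth.Agent.StalkHomLib.SectHom
import Groth.Agent.HomLib.Basic

/-! The sheaf of families of stalk maps is the internal Hom, for a quasi-coherent source. -/

set_option autoImplicit false
set_option backward.isDefEq.respectTransparency false
set_option backward.isDefEq.respectTransparency.types false
set_option linter.style.haveILetI false

universe u

open CategoryTheory CategoryTheory.Limits AlgebraicGeometry TopologicalSpace Opposite
open Groth.Agent.StalkHomLib Groth.Agent.DCohLib Groth.Agent.PullbackMod

noncomputable section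

namespace Groth.Agent.DefExtLib

variable {X : Scheme.{u}} (F N : X.Modules) [ModSite.HasSheafHom (O := X.sheaf) F]

theorem isLocSect_theta {U : X.Opens} (s : Γ((hF F).obj N, U)) :
    RefHull.IsLocSect F N fun x : U => theta F N x.1 (((hF F).obj N).presheaf.germ U x.1 x.2 s) := fun V i m x => by
  refine ⟨V, x.2, 𝟙 V, evS F N (((hF F).obj N).presheaf.map i.op s) m, fun y => ?_⟩
  have h := theta_germ F (N := N) y.2 (((hF F).obj N).presheaf.map i.op s) m
  rw [TopCat.Presheaf.germ_res_apply] at h
  exact h

/-- The comparison of the two sheaves of homomorphisms. -/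
def toHomSh : (hF F).obj N ⟶ RefHull.homSh F N :=
  ⟨PresheafOfModules.homMk
    { app := fun U => AddCommGrpCat.ofHom
        { toFun := fun s => (show Γ(RefHull.homSh F N, U.unop) from
            ⟨fun x : U.unop => theta F N x.1 (((hF F).obj N).presheaf.germ U.unop x.1 x.2 s), isLocSect_theta F N s⟩)
          map_zero' := Subtype.ext (funext fun x => by
            show theta F N x.1 (((hF F).obj N).presheaf.germ U.unop x.1 x.2 0) = 0
            rw [map_zero, map_zero])
          map_add' := fun s t => Subtype.ext (funext fun x => by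
            show theta F N x.1 _ = theta F N x.1 _ + theta F N x.1 _
            rw [← map_add]
            exact congrArg (theta F N x.1) (map_add (((hF F).obj N).presheaf.germ U.unop x.1 x.2).hom s t)) }
      naturality := fun {U V} i => by
        ext s
        refine Subtype.ext (funext fun x => ?_)
        show theta F N x.1 (((hF F).obj N).presheaf.germ V.unop x.1 x.2 (((hF F).obj N).presheaf.map i s)) =
          theta F N x.1 (((hF F).obj N).presheaf.germ U.unop x.1 (i.unop.le x.2) s)
        exact congrArg _ (TopCat.Presheaf.germ_res_apply _ i.unop x.1 x.2 s) }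
    (fun U a s => Subtype.ext (funext fun x => by
      show theta F N x.1 (((hF F).obj N).presheaf.germ U.unop x.1 x.2 (a • s)) =
        X.presheaf.germ U.unop x.1 x.2 a • theta F N x.1 (((hF F).obj N).presheaf.germ U.unop x.1 x.2 s)
      rw [← map_smul]
      exact congrArg _ (HomLib.germ_smul' x.2 a s)))⟩

theorem toHomSh_app {U : X.Opens} (s : Γ((hF F).obj N, U)) (x : U) :
    ((toHomSh F N).app U s).1 x = theta F N x.1 (((hF F).obj N).presheaf.germ U x.1 x.2 s) := rfl

theorem toHomSh_bijective [Coh.IsQCoh F] {U : X.Opens} (hU : IsAffineOpen U) :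
    Function.Bijective ((toHomSh F N).app U) := by
  refine ⟨(injective_iff_map_eq_zero _).2 fun s hs => sect_eq_zero F s fun y hy => ?_, fun f => ?_⟩
  · exact congrFun (congrArg Subtype.val hs) ⟨y, hy⟩
  · obtain ⟨s, hs⟩ := psi_surjective F N hU (HomLib.ev f le_rfl)
    refine ⟨s, HomLib.ev_injective hU (LinearMap.ext fun m => HomLib.ext_germ _ _ fun y hy => ?_)⟩
    rw [HomLib.germ_ev, HomLib.germ_ev, toHomSh_app, theta_germ]
    refine Eq.trans ?_ (HomLib.germ_ev f le_rfl hy m)
    exact congrArg _ (LinearMap.congr_fun hs m)

theorem isIso_toHomSh [Coh.IsQCoh F] : IsIso (toHomSh F N) := by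
  have hB : Opens.IsBasis (Set.range fun V : X.affineOpens => (V : X.Opens)) := by
    convert X.isBasis_affineOpens using 1
    exact Subtype.range_coe
  let α : (⟨((hF F).obj N).presheaf, ((hF F).obj N).isSheaf⟩ : TopCat.Sheaf Ab.{u} X) ⟶
      ⟨(RefHull.homSh F N).presheaf, (RefHull.homSh F N).isSheaf⟩ := ⟨(toHomSh F N).mapPresheaf⟩
  haveI : IsIso α := TopCat.Sheaf.isIso_iff_isIso_basis hB (φ := α) fun V =>
    (ConcreteCategory.isIso_iff_bijective _).2 (toHomSh_bijective F N V.2)
  haveI : IsIso ((Scheme.Modules.toPresheaf X).map (toHomSh F N)) := (sheafToPresheaf _ _).map_isIso α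
  exact isIso_of_reflects_iso _ (Scheme.Modules.toPresheaf X)

end Groth.Agent.DefExtLib
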