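import Groth.Agent.DefClassLib.Alg
import Groth.Agent.DefSchLib.Morph

/-! Homomorphisms between lifts over a small extension: comparison with a section, differences and shifts. -/

set_option autoImplicit false
set_option backward.isDefEq.respectTransparency false
set_option backward.isDefEq.respectTransparency.types false
set_option linter.style.haveILetI false

universe u

open CategoryTheory AlgebraicGeometry IsLocalRing ArtFun ArtFun.Art
open scoped TensorProduct

noncomputable section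

namespace Groth.Agent.DefExtLib

open DefSchLib DefClassLib

variable {k : Type u} [Field k] {B₀ : Type u} [CommRing B₀] [Algebra k B₀]

/-- A section of a lift, linear over the field. -/
structure IsSection {A : Art k k} (D : RingDef B₀ A) (θ : B₀ →+* D.R) : Prop where
  π : ∀ b, D.π (θ b) = b
  alg : ∀ c : k, θ (algebraMap k B₀ c) = D.str (algebraMap k A c)

variable {A B : Art k k} {g : A ⟶ B} {D : RingDef B₀ A} {θ : B₀ →+* D.R}

theorem ext_of_section {S : Type u} [CommRing S] (hθ : IsSection D θ) {f f' : D.R →+* S}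
    (h₁ : ∀ a, f (D.str a) = f' (D.str a)) (h₂ : ∀ b, f (θ b) = f' (θ b)) : f = f' := by
  letI := D.str.toAlgebra
  let b := Module.Basis.ofVectorSpace k B₀
  refine RingHom.ext fun r => ?_
  have hr : r ∈ Submodule.span A (Set.range fun i => θ (b i)) := by
    rw [D.span_lift b (fun i => θ (b i)) fun i => hθ.π _]
    trivial
  induction hr using Submodule.span_induction with
  | mem r hr => obtain ⟨i, rfl⟩ := hr; exact h₂ _
  | zero => simp
  | add a a' _ _ ha ha' => simp [ha, ha']
  | smul a r _ hr =>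
    show f (D.str a * r) = f' (D.str a * r)
    rw [map_mul, map_mul, h₁, hr]

theorem exists_hom_of_sections {E : RingDef B₀ B} {η : B₀ →+* E.R} (hθ : IsSection D θ) (hη : IsSection E η)
    (g : A ⟶ B) : ∃ h : Hom g D E, ∀ b, h.φ (θ b) = η b := by
  letI := D.str.toAlgebra
  letI : Algebra k D.R := (D.str.comp (algebraMap k A)).toAlgebra
  haveI : IsScalarTower k A D.R := IsScalarTower.of_algebraMap_eq fun _ => rfl
  letI : Algebra k E.R := (E.str.comp (algebraMap k B)).toAlgebra
  let θa : B₀ →ₐ[k] D.R := { θ with commutes' := hθ.alg }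
  let ηa : B₀ →ₐ[k] E.R := { η with commutes' := hη.alg }
  let sa : A →ₐ[A] D.R := Algebra.ofId A D.R
  let ta : A →ₐ[k] E.R :=
    { E.str.comp g.toAlgHom.toRingHom with
      commutes' := fun c => congrArg E.str (g.toAlgHom.commutes c) }
  let Φ : A ⊗[k] B₀ →ₐ[A] D.R := Algebra.TensorProduct.lift sa θa fun a b => Commute.all _ _
  let b := Module.Basis.ofVectorSpace k B₀
  have hΦ : Function.Bijective Φ := by
    let L : A ⊗[k] B₀ ≃ₗ[A] D.R := (Algebra.TensorProduct.basis A b).equiv
      (D.basisLift b (fun i => θ (b i)) fun i => hθ.π _) (Equiv.refl _)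
    have e : Φ.toLinearMap = L.toLinearMap := (Algebra.TensorProduct.basis A b).ext fun i => by
      show Φ _ = L _
      rw [Module.Basis.equiv_apply, Equiv.refl_apply, D.basisLift_apply, Algebra.TensorProduct.basis_apply,
        Algebra.TensorProduct.lift_tmul, map_one, one_mul]
      rfl
    rw [show (Φ : A ⊗[k] B₀ → D.R) = L from funext fun z => LinearMap.congr_fun e z]
    exact L.bijective
  let e := RingEquiv.ofBijective Φ hΦ
  let Ψ : A ⊗[k] B₀ →ₐ[k] E.R := Algebra.TensorProduct.lift ta ηa fun a b => Commute.all _ _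
  let f : D.R →+* E.R := Ψ.toRingHom.comp e.symm.toRingHom
  have he : ∀ a v, f (D.str a * θ v) = E.str (g a) * η v := fun a v => by
    show Ψ (e.symm (D.str a * θ v)) = _
    rw [show D.str a * θ v = e (a ⊗ₜ v) from (Algebra.TensorProduct.lift_tmul sa θa (fun _ _ => Commute.all _ _) a v).symm,
      RingEquiv.symm_apply_apply, Algebra.TensorProduct.lift_tmul]
    rfl
  have h1 : ∀ a, f (D.str a) = E.str (g a) := fun a => by
    have := he a 1
    rwa [map_one, map_one, mul_one, mul_one] at this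
  have h2 : ∀ v, f (θ v) = η v := fun v => by
    have := he 1 v
    rwa [map_one, one_mul, map_one g.toAlgHom, map_one, one_mul] at this
  have h3 : E.π.comp f = D.π := ext_of_section hθ
    (fun a => by rw [RingHom.comp_apply, h1, E.π_str, D.π_str, Art.res_app])
    (fun v => by rw [RingHom.comp_apply, h2, hη.π, hθ.π])
  exact ⟨⟨f, h1, fun r => RingHom.congr_fun h3 r⟩, h2⟩

variable {C' C : Art k k} {p : C' ⟶ C} (hp : KilledKer p) {D' D'' : RingDef B₀ C'} {D₀ : RingDef B₀ C}

theorem exists_homDiff (h'' : Hom p D'' D₀) (hs : Function.Surjective p) (φ φ' : Hom (𝟙 C') D' D'')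
    (hφ : ∀ r, h''.φ (φ.φ r) = h''.φ (φ'.φ r)) :
    ∃ δ : B₀ →+ B₀ ⊗[k] ↥(RingHom.ker p.toAlgHom), (∀ r, mu hp D'' (δ (D'.π r)) = φ'.φ r - φ.φ r) ∧
      (∀ u v, δ (u * v) = u • δ v + v • δ u) ∧ ∀ c : k, δ (algebraMap k B₀ c) = 0 := by
  obtain ⟨d, hd, hmul⟩ := exists_diff hp h'' hs hφ
  have hstr : ∀ a, d (D'.str a) = 0 := fun a => mu_injective hp D'' (by
    rw [hd, map_zero, φ'.φ_str, φ.φ_str, sub_self])
  have hπφ : ∀ r, D''.π (φ.φ r) = D'.π r := φ.π_φ
  have hker : ∀ r ∈ RingHom.ker D'.π, d r = 0 := fun r hr => by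
    rw [D'.ker_π] at hr
    induction hr using Submodule.span_induction with
    | mem r hr =>
      obtain ⟨a, -, rfl⟩ := hr
      exact hstr a
    | zero => rw [map_zero]
    | add a a' _ _ ha ha' => rw [map_add, ha, ha', add_zero]
    | smul c r hr hr' =>
      rw [smul_eq_mul, hmul, hr', smul_zero, zero_add, hπφ, show D'.π r = 0 from RingHom.mem_ker.mp (D'.ker_π ▸ hr),
        zero_smul]
  have hs' : ∀ v, D'.π (Function.surjInv D'.π_surjective v) = v := Function.surjInv_eq D'.π_surjective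
  have key : ∀ r r', D'.π r = D'.π r' → d r = d r' := fun r r' e =>
    sub_eq_zero.mp (by rw [← map_sub]; exact hker _ (by rw [RingHom.mem_ker, map_sub, e, sub_self]))
  let δ : B₀ →+ B₀ ⊗[k] ↥(RingHom.ker p.toAlgHom) :=
    AddMonoidHom.mk' (fun v => d (Function.surjInv D'.π_surjective v)) fun v v' => by
      rw [← map_add]
      exact key _ _ (by rw [hs', map_add, hs', hs'])
  have hδ : ∀ r, δ (D'.π r) = d r := fun r => key _ _ (hs' _)
  refine ⟨δ, fun r => by rw [hδ]; exact hd r, fun u v => ?_, fun c => ?_⟩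
  · obtain ⟨r, rfl⟩ := D'.π_surjective u
    obtain ⟨r', rfl⟩ := D'.π_surjective v
    rw [← map_mul, hδ, hδ, hδ, hmul, hπφ, hπφ]
  · have h1 : D'.π (D'.str (algebraMap k C' c)) = algebraMap k B₀ c := by
      rw [D'.π_str, AlgHom.commutes]
      rfl
    rw [← h1, hδ, hstr]

/-- The derivation rule for maps to the tensor product. -/
structure IsDer (δ : B₀ →+ B₀ ⊗[k] ↥(RingHom.ker p.toAlgHom)) : Prop where
  mul : ∀ u v, δ (u * v) = u • δ v + v • δ u
  alg : ∀ c : k, δ (algebraMap k B₀ c) = 0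

include hp in
theorem exists_shiftHom (h'' : Hom p D'' D₀) (hs : Function.Surjective p) (φ : Hom (𝟙 C') D' D'')
    {δ : B₀ →+ B₀ ⊗[k] ↥(RingHom.ker p.toAlgHom)} (hδ : IsDer δ) :
    ∃ φ' : Hom (𝟙 C') D' D'', (∀ r, φ'.φ r = φ.φ r + mu hp D'' (δ (D'.π r))) ∧
      ∀ r, h''.φ (φ'.φ r) = h''.φ (φ.φ r) := by
  obtain ⟨f, hf⟩ := exists_shift hp φ.φ (δ.comp D'.π.toAddMonoidHom) fun r r' => by
    show δ (D'.π (r * r')) = _
    rw [map_mul, hδ.mul, φ.π_φ, φ.π_φ]
    rfl
  have hstr : ∀ a : C', δ (algebraMap k B₀ (C'.res a)) = 0 := fun a => hδ.alg _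
  refine ⟨⟨f, fun a => ?_, fun r => ?_⟩, hf, fun r => ?_⟩
  · rw [hf]
    show φ.φ (D'.str a) + mu hp D'' (δ (D'.π (D'.str a))) = _
    rw [D'.π_str, hstr, map_zero, add_zero, φ.φ_str]
  · rw [hf, map_add, π_mu, add_zero, φ.π_φ]
  · show h''.φ (f r) = _
    rw [hf, map_add, (mem_ker_iff hp D'' h'' hs _).mpr ⟨_, rfl⟩, add_zero]

end Groth.Agent.DefExtLib
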