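import Groth.Agent.DefExtLib.Diff
import Groth.Agent.DefClassLib.Class
import Groth.Agent.ArtFunLib.HR

/-! The relative class of two extensions of a deformation of a smooth scheme. -/

set_option autoImplicit false
set_option backward.isDefEq.respectTransparency false
set_option backward.isDefEq.respectTransparency.types false
set_option linter.style.haveILetI false

universe u

open CategoryTheory CategoryTheory.Limits AlgebraicGeometry TopologicalSpace Opposite ArtFun ArtFun.Art IsLocalRing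
open scoped TensorProduct

noncomputable section

namespace Groth.Agent.DefExtLib

open LocHilbGlueLib DefGlueLib DefSchLib RigidLib DefClassLib CohBase H1ClassLib

variable {k : Type u} [Field k] {X : Scheme.{u}} {x : X ⟶ specPt k} [Smooth x] [IsSeparated x]
  {C' C : Art k k} {p : C' ⟶ C} (hp : KilledKer p) (hs : Function.Surjective p)
  {ξ η η' : DefSch X x C'} {ζ : DefSch X x C} {m : DefGlueLib.Mor p ξ ζ} {n : DefGlueLib.Mor p η ζ}
  {n' : DefGlueLib.Mor p η' ζ}

theorem Loc.res_res {V V' V'' : X.Opens} (hV : IsAffineOpen V) (hV' : IsAffineOpen V') (hV'' : IsAffineOpen V'')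
    (h : V' ≤ V) (h' : V'' ≤ V') (φ : Loc m n V) :
    (φ.res hV hV' h).res hV' hV'' h' = φ.res hV hV'' (h'.trans h) := by
  refine (Loc.res_unique hV hV'' (h'.trans h) φ _ ?_).symm
  have e1 : ∀ σ : DefSch X x C', resR σ (h'.trans h) = resR σ h ≫ resR σ h' := fun σ => by
    simp only [resR, ← Functor.map_comp]
    rfl
  rw [e1, e1, Category.assoc, (φ.res hV hV' h).res_spec hV' hV'' h', ← Category.assoc, φ.res_spec hV hV' h,
    Category.assoc]

theorem Loc.comp_res {V W : X.Opens} (hV : IsAffineOpen V) (hW : IsAffineOpen W) (h : W ≤ V) (φ : Loc m n V)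
    (ψ : Loc n n' V) : (φ.comp ψ).res hV hW h = (φ.res hV hW h).comp (ψ.res hV hW h) := by
  refine Loc.res_unique hV hW h _ _ ?_
  show resR ξ h ≫ (φ.res hV hW h).φ ≫ (ψ.res hV hW h).φ = (φ.φ ≫ ψ.φ) ≫ resR η' h
  rw [← Category.assoc, φ.res_spec hV hW h, Category.assoc, ψ.res_spec hV hW h, Category.assoc]

variable {ι : Type u} {V : ι → X.Opens} (hV : ∀ a, IsAffineOpen (V a)) (φ : ∀ a, Loc m n (V a))
  (l : kerP p →ₗ[k] k)

/-- The difference on an overlap. -/
def rOverlap (a b : ι) : Γ(derSh x (𝟙 X), V a ⊓ V b) :=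
  locSect hp hs (affine_inf (y := x) (hV a) (hV b))
    ((φ a).res (hV a) (affine_inf (y := x) (hV a) (hV b)) inf_le_left)
    ((φ b).res (hV b) (affine_inf (y := x) (hV a) (hV b)) inf_le_right) l

theorem rD_rOverlap (a b : ι) {W : X.Opens} (hW : IsAffineOpen W) (ha : W ≤ V a) (hb : W ≤ V b) :
    rD x (𝟙 X) (le_inf ha hb) (rOverlap hp hs hV φ l a b) =
      locSect hp hs hW ((φ a).res (hV a) hW ha) ((φ b).res (hV b) hW hb) l := by
  rw [rOverlap, rD_locSect hp hs _ hW, Loc.res_res, Loc.res_res]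

theorem rOverlap_mem : (fun a b => rOverlap hp hs hV φ l a b) ∈ pairs V (derAb x (𝟙 X)) := by
  intro a b d
  have hW : IsAffineOpen (V a ⊓ V b ⊓ V d) := affine_inf (y := x) (affine_inf (y := x) (hV a) (hV b)) (hV d)
  simp only [res_derAb]
  rw [rD_rOverlap hp hs hV φ l a b hW (inf_le_left.trans inf_le_left) (inf_le_left.trans inf_le_right),
    rD_rOverlap hp hs hV φ l b d hW (inf_le_left.trans inf_le_right) inf_le_right,
    rD_rOverlap hp hs hV φ l a d hW (inf_le_left.trans inf_le_left) inf_le_right]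
  exact locSect_cocycle hp hs hW _ _ _ l

/-- The cocycle of differences. -/
def rCocy : pairs V (derAb x (𝟙 X)) := ⟨fun a b => rOverlap hp hs hV φ l a b, rOverlap_mem hp hs hV φ l⟩

variable (hcov : ⊤ ≤ iSup V)

/-- The relative class computed with given local isomorphisms. -/
def rcWith : Coh.HH X (derSh x (𝟙 X)) 1 := clsHom hcov (rCocy hp hs hV φ l)

theorem rcWith_congr (φ' : ∀ a, Loc m n (V a)) : rcWith hp hs hV φ' l hcov = rcWith hp hs hV φ l hcov := by
  rw [← sub_eq_zero, rcWith, rcWith, ← map_sub]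
  refine clsHom_eq_zero_of_coboundary hcov _ (fun a => locSect hp hs (hV a) (φ a) (φ' a) l) fun a b => ?_
  show _ = rOverlap hp hs hV φ' l a b - rOverlap hp hs hV φ l a b
  rw [rD_locSect hp hs _ (affine_inf (y := x) (hV a) (hV b)),
    rD_locSect hp hs _ (affine_inf (y := x) (hV a) (hV b)), rOverlap, rOverlap]
  have key := fun τ₁ τ₂ τ₃ => locSect_cocycle hp hs (affine_inf (y := x) (hV a) (hV b)) (m := m) (n := n) τ₁ τ₂ τ₃ l
  rw [sub_eq_sub_iff_add_eq_add, add_comm (locSect hp hs _ _ ((φ' b).res _ _ _) l), key, add_comm, key]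

/-- Some local isomorphisms. -/
def someLocs (a : ι) : Loc m n (V a) := (exists_loc hs (hV a)).some

variable (m n) in
/-- The relative class. -/
def rc : Coh.HH X (derSh x (𝟙 X)) 1 := rcWith hp hs hV (someLocs hs hV : ∀ a, Loc m n (V a)) l hcov

theorem rc_eq : rc hp hs m n hV l hcov = rcWith hp hs hV φ l hcov := rcWith_congr hp hs hV φ l hcov (someLocs hs hV)

theorem rcWith_add (l' : kerP p →ₗ[k] k) :
    rcWith hp hs hV φ (l + l') hcov = rcWith hp hs hV φ l hcov + rcWith hp hs hV φ l' hcov := by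
  rw [rcWith, rcWith, rcWith, ← map_add]
  congr 1
  exact Subtype.ext (funext fun a => funext fun b => locSect_add hp hs _ _ _ l l')

theorem rcWith_smul (c : k) : rcWith hp hs hV φ (c • l) hcov = Coh.toGlobal x c • rcWith hp hs hV φ l hcov := by
  refine clsHom_smul hcov _ _ _ fun a b => ?_
  refine (locSect_smul hp hs _ _ _ c l).trans ?_
  refine congrArg (· • _) ?_
  exact congrArg (fun g : CommRingCat.of k ⟶ Γ(X, V a ⊓ V b) => g c)
    (show algR x _ = ((Scheme.ΓSpecIso (CommRingCat.of k)).inv ≫ x.appTop) ≫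
        X.presheaf.map (homOfLE (le_top : V a ⊓ V b ≤ ⊤)).op by
      simp [algR, Scheme.Hom.appLE, Scheme.Hom.appTop])

theorem locSect_res_comp {U W : X.Opens} (hU : IsAffineOpen U) {U' : X.Opens} (hU' : IsAffineOpen U')
    (hW : IsAffineOpen W) (h : W ≤ U) (h' : W ≤ U') (α : Loc m n U) (α' : Loc m n U') (β : Loc n n' U)
    (β' : Loc n n' U') :
    locSect hp hs hW ((α.comp β).res hU hW h) ((α'.comp β').res hU' hW h') l =
      locSect hp hs hW (α.res hU hW h) (α'.res hU' hW h') l + locSect hp hs hW (β.res hU hW h) (β'.res hU' hW h') l :=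
  (congrArg₂ (fun s t : Loc m n' W => locSect hp hs hW s t l) (Loc.comp_res hU hW h α β)
    (Loc.comp_res hU' hW h' α' β')).trans (locSect_comp hp hs hW _ _ _ _ l)

theorem rCocy_comp (ψ : ∀ a, Loc n n' (V a)) :
    rCocy hp hs hV (fun a => (φ a).comp (ψ a)) l = rCocy hp hs hV φ l + rCocy hp hs hV ψ l :=
  Subtype.ext (funext fun a => funext fun b => locSect_res_comp hp hs l (hV a) (hV b)
    (affine_inf (y := x) (hV a) (hV b)) inf_le_left inf_le_right (φ a) (φ b) (ψ a) (ψ b))

theorem rcWith_comp (ψ : ∀ a, Loc n n' (V a)) :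
    rcWith hp hs hV (fun a => (φ a).comp (ψ a)) l hcov = rcWith hp hs hV φ l hcov + rcWith hp hs hV ψ l hcov := by
  unfold rcWith
  rw [rCocy_comp, map_add]

theorem rc_comp : rc hp hs m n' hV l hcov = rc hp hs m n hV l hcov + rc hp hs n n' hV l hcov :=
  (rc_eq hp hs hV _ l hcov).trans (rcWith_comp hp hs hV (someLocs hs hV) l hcov (someLocs hs hV))

theorem finite_kerP (p : C' ⟶ C) : Module.Finite k (kerP p) := by
  haveI : IsArtinian k C' := ArtFunLib.isArtinian_art C'
  haveI : IsNoetherian k C' := IsSemiprimaryRing.isNoetherian_iff_isArtinian.mpr inferInstance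
  exact (inferInstance : Module.Finite k ↥((RingHom.ker p.toAlgHom).restrictScalars k))

include hp in
theorem exists_shiftLoc_sect {W : X.Opens} (hW : IsAffineOpen W) (φ : Loc m n W) {ν : Type u} [Fintype ν]
    [DecidableEq ν] (b : Module.Basis ν k (kerP p)) (s : ν → Γ(derSh x (𝟙 X), W)) :
    ∃ φ' : Loc m n W, ∀ j, locSect hp hs hW φ φ' (b.coord j) = s j := by
  letI := algV x W
  let δ : Γ(X, W) →+ Γ(X, W) ⊗[k] kerP p :=
    AddMonoidHom.mk' (fun r => ∑ j, vval (s j) r ⊗ₜ[k] b j) fun r r' => by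
      simp only [vval, val_add_right]
      rw [← Finset.sum_add_distrib]
      exact Finset.sum_congr rfl fun j _ => TensorProduct.add_tmul _ _ _
  have hδ : IsDer δ := ⟨fun u v => by
    show ∑ j, vval (s j) (u * v) ⊗ₜ[k] b j = u • ∑ j, _ + v • ∑ j, _
    rw [Finset.smul_sum, Finset.smul_sum, ← Finset.sum_add_distrib]
    refine Finset.sum_congr rfl fun j _ => ?_
    rw [TensorProduct.smul_tmul', TensorProduct.smul_tmul', ← TensorProduct.add_tmul]
    exact congrArg (· ⊗ₜ[k] b j) (val_mul x (𝟙 X) (s j) u v), fun c => Finset.sum_eq_zero fun j _ => by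
    rw [show vval (s j) (algebraMap k Γ(X, W) c) = 0 from val_algR x (𝟙 X) (s j) c, TensorProduct.zero_tmul]⟩
  obtain ⟨φ', h⟩ := exists_shiftLoc hp hs hW φ δ hδ
  refine ⟨φ', fun j => val_ext x (𝟙 X) hW fun r => ?_⟩
  refine (val_locSect hp hs hW φ φ' (b.coord j) r).trans ?_
  obtain ⟨r, rfl⟩ := piU_surjective ξ hW r
  rw [locDiff_eq hp hs hW φ φ' r (δ (piU ξ W r)) (by rw [h, add_sub_cancel_left])]
  show coef (b.coord j) (∑ i, _ ⊗ₜ[k] b i) = _
  rw [map_sum, Finset.sum_eq_single j]
  · rw [coef_tmul, Module.Basis.coord_apply, Module.Basis.repr_self, Finsupp.single_eq_same, one_smul]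
  · intro i _ hij
    rw [coef_tmul, Module.Basis.coord_apply, Module.Basis.repr_self, Finsupp.single_eq_of_ne (Ne.symm hij), zero_smul]
  · exact fun h => absurd (Finset.mem_univ j) h

theorem eq_of_locSect_basis {W : X.Opens} (hW : IsAffineOpen W) (φ φ' : Loc m n W) {ν : Type u} [Fintype ν]
    (b : Module.Basis ν k (kerP p)) (h : ∀ j, locSect hp hs hW φ φ' (b.coord j) = 0) : φ = φ' := by
  refine eq_of_locSect hp hs hW φ φ' fun l => val_ext x (𝟙 X) hW fun r => ?_
  letI := algV x W
  have e : l = ∑ j, l (b j) • b.coord j := by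
    refine b.ext fun i => ?_
    rw [LinearMap.sum_apply, Finset.sum_eq_single i]
    · simp
    · intro j _ hj
      simp [Finsupp.single_eq_of_ne hj]
    · exact fun h => absurd (Finset.mem_univ i) h
  refine (val_locSect hp hs hW φ φ' l r).trans ((?_ : _ = (0 : Γ(X, W))).trans (val_zero x (𝟙 X) r).symm)
  have hz : ∀ s : Finset ν, coef (∑ j ∈ s, l (b j) • b.coord j) (locDiff hp hs hW φ φ' r) = 0 := by
    classical
    intro s
    induction s using Finset.induction with
    | empty => simpa using coef_smul_left (0 : k) (0 : kerP p →ₗ[k] k) (locDiff hp hs hW φ φ' r)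
    | insert j s hj ih =>
      rw [Finset.sum_insert hj, coef_add, ih, coef_smul_left, ← val_locSect hp hs hW φ φ' (b.coord j) r, h,
        show vval (0 : Γ(derSh x (𝟙 X), W)) r = 0 from val_zero x (𝟙 X) r, smul_zero, add_zero]
  rw [e]
  exact hz _

theorem exists_agreeing_locs (h0 : ∀ l, rc hp hs m n hV l hcov = 0) :
    ∃ φ : ∀ a, Loc m n (V a), ∀ a b (W : X.Opens) (hW : IsAffineOpen W) (ha : W ≤ V a) (hb : W ≤ V b),
      (φ a).res (hV a) hW ha = (φ b).res (hV b) hW hb := by
  classical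
  haveI := finite_kerP p
  let bJ := Module.Free.chooseBasis k (kerP p)
  let φ₀ : ∀ a, Loc m n (V a) := someLocs hs hV
  choose h hh using fun j => exists_coboundary hcov _ (h0 (bJ.coord j))
  choose φ hφ using fun a => exists_shiftLoc_sect hp hs (hV a) (φ₀ a) bJ fun j => -h j a
  refine ⟨φ, fun a b W hW ha hb => eq_of_locSect_basis hp hs hW _ _ bJ fun j => ?_⟩
  have e2 : rD x (𝟙 X) (le_inf ha hb) (rOverlap hp hs hV φ₀ (bJ.coord j) a b) =
      locSect hp hs hW ((φ₀ a).res (hV a) hW ha) ((φ₀ b).res (hV b) hW hb) (bJ.coord j) :=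
    rD_rOverlap hp hs hV φ₀ _ a b hW ha hb
  have e3 : rD x (𝟙 X) hb (h j b) - rD x (𝟙 X) ha (h j a) =
      locSect hp hs hW ((φ₀ a).res (hV a) hW ha) ((φ₀ b).res (hV b) hW hb) (bJ.coord j) := by
    refine Eq.trans ?_ e2
    refine Eq.trans ?_ (congrArg (rD x (𝟙 X) (le_inf ha hb)) (hh j a b))
    rw [map_sub, ← res_derAb, ← res_derAb, ← res_derAb, ← res_derAb, ← res_derAb, ← res_derAb, CohBase.res_res,
      CohBase.res_res]
  rw [show h j b = -locSect hp hs (hV b) (φ₀ b) (φ b) (bJ.coord j) by rw [hφ, neg_neg],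
    show h j a = -locSect hp hs (hV a) (φ₀ a) (φ a) (bJ.coord j) by rw [hφ, neg_neg], map_neg, map_neg,
    rD_locSect hp hs _ hW, rD_locSect hp hs _ hW] at e3
  have c1 := locSect_cocycle hp hs hW ((φ₀ a).res (hV a) hW ha) ((φ a).res (hV a) hW ha)
    ((φ b).res (hV b) hW hb) (bJ.coord j)
  have c2 := locSect_cocycle hp hs hW ((φ₀ a).res (hV a) hW ha) ((φ₀ b).res (hV b) hW hb)
    ((φ b).res (hV b) hW hb) (bJ.coord j)
  rw [← c2, ← e3] at c1
  rwa [show ∀ s t : Γ(derSh x (𝟙 X), W), -t - -s + t = s from fun s t => by abel, add_eq_left] at c1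

end Groth.Agent.DefExtLib
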