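import Groth.Agent.DefExtLib.Surj
import Groth.Agent.DefClassLib.Tangent
import Groth.Agent.DefClassLib.Embed

/-! First order deformations of a smooth separated scheme are the first cohomology of the vector fields. -/

set_option autoImplicit false
set_option backward.isDefEq.respectTransparency false
set_option backward.isDefEq.respectTransparency.types false
set_option linter.style.haveILetI false

universe u

open CategoryTheory CategoryTheory.Limits AlgebraicGeometry TopologicalSpace Opposite ArtFun ArtFun.Art IsLocalRing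
open scoped TensorProduct

noncomputable section

namespace Groth.Agent.DefExtLib

open LocHilbGlueLib DefGlueLib DefSchLib RigidLib DefClassLib CohBase H1ClassLib

variable {k : Type u} [Field k] {X : Scheme.{u}} {x : X ⟶ specPt k} [Smooth x] [IsSeparated x]

theorem flat_x : Flat x :=
  inferInstance

/-- The trivial deformation. -/
abbrev triv (x : X ⟶ specPt k) [Smooth x] [IsSeparated x] (A : Art k k) : DefSch X x A :=
  DefSch.trivial X x flat_x A

/-- The trivial deformation over the point. -/
abbrev pt (x : X ⟶ specPt k) [Smooth x] [IsSeparated x] : DefSch X x (base k k) := DefSch.self X x flat_x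

/-- The structure morphism to the point. -/
def toPt (A : Art k k) : DefGlueLib.Mor (toBase A) (triv x A) (pt x) where
  ψ := (triv x A).i
  w := (triv x A).isPullback.w
  i := Category.id_comp _

theorem triv_i (A : Art k k) : (triv x A).i = XAincl x A :=
  pullback.hom_ext (f := x) (g := specOver A) ((DefSch.baseChange_i_fst _ _).trans (XAincl_fst x A).symm)
    ((DefSch.baseChange_i_f _ _).trans (XAincl_snd x A).symm)

variable {ι : Type u} {V : ι → X.Opens} (hV : ∀ a, IsAffineOpen (V a))

/-- The projection of the trivial deformation to the scheme. -/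
abbrev projX (A : Art k k) : (triv x A).total ⟶ X := pullback.fst x (specMap (ofBase A))

theorem preimage_projX (A : Art k k) (U : X.Opens) : projX A ⁻¹ᵁ U = imU (triv x A) U := by
  rw [← eq_imU (triv x A) (projX A ⁻¹ᵁ U), ← Scheme.Hom.comp_preimage,
    show (triv x A).i ≫ projX A = 𝟙 X from DefSch.baseChange_i_fst _ _]
  rfl

/-- The chart of the trivial deformation. -/
def trivChart (A : Art k k) (U : X.Opens) : Chart (triv x A) x (𝟙 X) U where
  θ := (projX A).appLE U (imU (triv x A) (𝟙 X ⁻¹ᵁ U)) (preimage_projX A U).ge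
  π := by
    rw [piU, Scheme.Hom.appLE_comp_appLE, Scheme.Hom.app_eq_appLE]
    simp only [show (triv x A).i ≫ projX A = 𝟙 X from DefSch.baseChange_i_fst _ _]
  alg := by
    rw [algR, Category.assoc, Scheme.Hom.appLE_comp_appLE]
    simp only [show projX A ≫ x = (triv x A).f ≫ specMap (ofBase A) from pullback.condition]
    rw [strU, ← Category.assoc (CommRingCat.ofHom _), Scheme.ΓSpecIso_inv_naturality, Category.assoc]
    congr 1

theorem trivChart_res (A : Art k k) {U W : X.Opens} (hU : IsAffineOpen U) (hW : IsAffineOpen W) (h : W ≤ U) :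
    (trivChart A U).res (triv x A) hU hW h = trivChart A W := by
  refine Chart.res_unique _ hU hW h _ _ ?_
  simp [trivChart, resR, Scheme.Hom.appLE_map, Scheme.Hom.map_appLE]

variable {C' C : Art k k} {p : C' ⟶ C} {ξ η : DefSch X x C'} {ζ : DefSch X x C} {m : DefGlueLib.Mor p ξ ζ}
  {n : DefGlueLib.Mor p η ζ}

theorem moveChart_res {U W : X.Opens} (hU : IsAffineOpen U) (hW : IsAffineOpen W) (h : W ≤ U) (φ : Loc m n U)
    (θ : Chart ξ x (𝟙 X) U) :
    (φ.moveChart θ).res η hU hW h = (φ.res hU hW h).moveChart (θ.res ξ hU hW h) := by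
  refine Chart.res_unique η hU hW h _ _ ?_
  show (θ.θ ≫ φ.φ) ≫ _ = _ ≫ (θ.res ξ hU hW h).θ ≫ _
  rw [Category.assoc]
  exact ((congrArg (θ.θ ≫ ·) (φ.res_spec hU hW h).symm).trans (Category.assoc _ _ _).symm).trans
    ((congrArg (· ≫ _) (θ.res_spec ξ hU hW h)).trans (Category.assoc _ _ _))

theorem diffSect_moveChart {A : Art k k} {ξ η : DefSch X x A} {ζ : DefSch X x (base k k)}
    {m : DefGlueLib.Mor (toBase A) ξ ζ} {n : DefGlueLib.Mor (toBase A) η ζ} (hA : SqZero A) {W : X.Opens}
    (hW : IsAffineOpen W) (φ φ' : Loc m n W) (θ : Chart ξ x (𝟙 X) W) (l : kerM A →ₗ[k] k) :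
    diffSect (Category.id_comp x) hA hW (φ.moveChart θ) (φ'.moveChart θ) l =
      locSect (killedKer hA) A.res_surjective hW φ φ' l := by
  letI := algV x W
  refine val_ext x (𝟙 X) hW fun r => ?_
  have hd : del hA hW (φ.moveChart θ) (φ'.moveChart θ) r =
      locDiff (killedKer hA) A.res_surjective hW φ φ' r := by
    refine del_eq hA hW (φ.moveChart θ) (φ'.moveChart θ) r _ ?_
    have h := mu_locDiff (killedKer hA) A.res_surjective hW φ φ' (θ.θ r)
    rw [show piU ξ W (θ.θ r) = r from ConcreteCategory.congr_hom θ.π r] at h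
    exact h
  exact (val_diffSect (Category.id_comp x) hA hW _ _ l r).trans
    ((congrArg (fun z : Γ(X, W) ⊗[k] kerM A => coef l z) hd).trans (val_locSect _ _ hW φ φ' l r).symm)

variable (hcov : ⊤ ≤ iSup V)

theorem acyclic_derAb [IsLocallyNoetherian X] [LocallyOfFiniteType x] (hV : ∀ a, IsAffineOpen (V a)) :
    Acyclic V (derAb x (𝟙 X)) := by
  haveI : Coh.IsQCoh (derSh x (𝟙 X)) := (isCoh_derSh x (𝟙 X)).1
  refine acyclic_of_affine (derSh x (𝟙 X)) V fun j t => ?_
  induction j with
  | zero => rw [show t = fun _ => t 0 from funext fun q => by rw [show q = 0 from Fin.ext (by omega)], ← inter_const]; exact hV _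
  | succ j ih =>
    have e : inter V t = V (t 0) ⊓ inter V (t ∘ Fin.succ) :=
      le_antisymm (le_inf (inter_le V t 0) (inter_comp_le V t Fin.succ)) (le_iInf fun q =>
        Fin.cases inf_le_left (fun q => inf_le_right.trans (inter_le V (t ∘ Fin.succ) q)) q)
    rw [e]
    exact affine_inf (y := x) (hV _) (ih _)

variable [TangentStr (defFunctor (Λ := k) X x)]

theorem tclass_eq_zero_imp (s : TangentSpace (defFunctor (Λ := k) X x))
    (hs : tclass (Category.id_comp x) hV hcov s = 0) : s = (triv x (dual k k)).cl := by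
  induction s using Quotient.inductionOn with
  | h ξ =>
    obtain ⟨θ, hθ⟩ := exists_agreeing_charts (Category.id_comp x) hV sqZero_dual hcov (ξ := ξ) epsJ
      eq_zero_of_epsJ (lEps k) lEps_epsJ hs
    let m : DefGlueLib.Mor (𝟙 (dual k k)) (triv x (dual k k)) ξ :=
      { ψ := emb (y := x) (i := 𝟙 X) hV θ hθ hcov
        w := by rw [specMap_id, Category.comp_id]; exact emb_snd hV θ hθ hcov
        i := (i_emb hV θ hθ hcov).trans ((Category.id_comp _).trans (triv_i _).symm) }
    exact Quotient.sound ⟨m.iso⟩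

omit [TangentStr (defFunctor (Λ := k) X x)] in
theorem overlap_moveChart {A : Art k k} {η : DefSch X x A} {n : DefGlueLib.Mor (toBase A) η (pt x)} (hA : SqZero A)
    (φ : ∀ a, Loc (toPt A) n (V a)) (l : kerM A →ₗ[k] k) (a b : ι) :
    overlap (Category.id_comp x) hV (fun a => (φ a).moveChart (trivChart A (V a))) hA l a b =
      rOverlap (killedKer hA) A.res_surjective hV φ l a b := by
  have hW := affine_inf (y := x) (hV a) (hV b)
  have e : ∀ (U : X.Opens) (hU : IsAffineOpen U) (h : V a ⊓ V b ≤ U) (ψ : Loc (toPt A) n U),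
      (ψ.moveChart (trivChart A U)).res η hU hW h = (ψ.res hU hW h).moveChart (trivChart A (V a ⊓ V b)) :=
    fun U hU h ψ => (moveChart_res hU hW h ψ _).trans (congrArg _ (trivChart_res A hU hW h))
  unfold overlap rOverlap
  rw [e (V a) (hV a) inf_le_left, e (V b) (hV b) inf_le_right]
  exact diffSect_moveChart hA hW _ _ _ _

omit [TangentStr (defFunctor (Λ := k) X x)] in
theorem exists_cls_eq [IsLocallyNoetherian X] [LocallyOfFiniteType x] {A : Art k k} (hA : SqZero A)
    (bJ : Module.Basis PUnit.{u + 1} k (kerM A)) (c : pairs V (derAb x (𝟙 X))) :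
    ∃ η : DefSch X x A, cls (Category.id_comp x) hV η hA (bJ.coord PUnit.unit) hcov = clsHom hcov c := by
  classical
  obtain ⟨η, n, φ, hφ⟩ := exists_realised (killedKer hA) A.res_surjective (m := toPt (x := x) A) hV bJ
    (fun _ => c) hcov
  refine ⟨η, (cls_eq (Category.id_comp x) hV (fun a => (φ a).moveChart (trivChart A (V a))) hA _ hcov).trans ?_⟩
  refine congrArg (clsHom hcov) (Subtype.ext (funext fun a => funext fun b => ?_))
  exact (overlap_moveChart hV hA φ _ a b).trans (hφ PUnit.unit a b)

theorem tclass_surjective [IsLocallyNoetherian X] [LocallyOfFiniteType x] :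
    Function.Surjective (tclass (Category.id_comp x) hV hcov :
      TangentSpace (defFunctor (Λ := k) X x) → Coh.HH X (derSh x (𝟙 X)) 1) := by
  intro z
  obtain ⟨c, rfl⟩ := clsHom_surjective hcov (acyclic_derAb hV) z
  have hb : Function.Bijective (lEps k) := ⟨(injective_iff_map_eq_zero _).2 fun j hj => Subtype.ext
    (TrivSqZeroExt.ext (R := k) (M := k) (RingHom.mem_ker.mp j.2) hj),
    fun a => ⟨a • epsJ, by rw [map_smul, lEps_epsJ, smul_eq_mul, mul_one]⟩⟩
  let bJ : Module.Basis PUnit.{u + 1} k (kerM (dual k k)) :=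
    (Module.Basis.singleton PUnit.{u + 1} k).map (LinearEquiv.ofBijective (lEps k) hb).symm
  have hc : bJ.coord PUnit.unit = lEps k := bJ.ext fun _ => by simp [bJ]
  obtain ⟨η, hη⟩ := exists_cls_eq hV hcov sqZero_dual bJ c
  rw [hc] at hη
  exact ⟨η.cl, hη⟩

end Groth.Agent.DefExtLib
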