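import Groth.Agent.DefExtLib.Surj
import Groth.Agent.DefExtLib.Tangent
import Groth.Agent.DefSchLib.Ext

/-! Extensions of a deformation up to equivalence and their relative classes. -/

set_option autoImplicit false
set_option backward.isDefEq.respectTransparency false
set_option backward.isDefEq.respectTransparency.types false
set_option linter.style.haveILetI false

universe u

open CategoryTheory CategoryTheory.Limits AlgebraicGeometry TopologicalSpace Opposite ArtFun ArtFun.Art IsLocalRing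
open scoped TensorProduct

noncomputable section

namespace Groth.Agent.DefExtLib

open LocHilbGlueLib DefGlueLib DefSchLib RigidLib DefClassLib CohBase H1ClassLib

variable {k : Type u} [Field k] {X : Scheme.{u}} {x : X ⟶ specPt k}
  {C' C : Art k k} {p : C' ⟶ C} {ζ : DefSch X x C}

theorem mor_ext' {A B : Art k k} {g : A ⟶ B} {ξ : DefSch X x A} {η : DefSch X x B} {m m' : DefGlueLib.Mor g ξ η}
    (h : m.ψ = m'.ψ) : m = m' := by
  cases m; cases m'; subst h; rfl

/-- An extension as a morphism of deformations. -/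
def extMor (a : Σ η : DefSch X x C', (η.baseChange p).Iso ζ) : DefGlueLib.Mor p a.1 ζ where
  ψ := a.2.iso.inv ≫ pullback.fst a.1.f (specMap p)
  w := by
    rw [Category.assoc, pullback.condition, ← Category.assoc]
    exact congrArg (· ≫ specMap p) a.2.symm.hom_f
  i := by
    rw [← Category.assoc]
    exact (congrArg (· ≫ _) a.2.symm.i_hom).trans (DefSch.baseChange_i_fst _ _)

theorem extEquiv_iff (a b : Σ η : DefSch X x C', (η.baseChange p).Iso ζ) :
    ExtEquiv p a b ↔ ExtIso (extMor a) (extMor b) := by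
  constructor
  · rintro ⟨ψ, h⟩
    refine ⟨Mor.ofIso ψ.symm, ?_⟩
    show (b.2.iso.inv ≫ pullback.fst b.1.f (specMap p)) ≫ ψ.iso.inv = a.2.iso.inv ≫ pullback.fst a.1.f (specMap p)
    rw [Category.assoc, ← pullMap_inv_eq, h]
  · rintro ⟨μ, h⟩
    refine ⟨μ.iso.symm, iso_ext p ((pullMap_inv_eq p _ _).trans ?_)⟩
    rw [← Category.assoc]
    exact h

theorem exists_extMor_eq {η : DefSch X x C'} (n : DefGlueLib.Mor p η ζ) :
    ∃ u : (η.baseChange p).Iso ζ, extMor ⟨η, u⟩ = n := by
  refine ⟨n.toBaseChange.iso.symm, ?_⟩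
  exact mor_ext' (pullback.lift_fst _ _ _ : (extMor (ζ := ζ) ⟨η, n.toBaseChange.iso.symm⟩).ψ = n.ψ)

variable [Smooth x] [IsSeparated x] {ξ η : DefSch X x C'} {m : DefGlueLib.Mor p ξ ζ} {n : DefGlueLib.Mor p η ζ}
  (hp : KilledKer p) (hs : Function.Surjective p) {ι : Type u} {V : ι → X.Opens} (hV : ∀ a, IsAffineOpen (V a))
  (hcov : ⊤ ≤ iSup V) {ν : Type u} [Fintype ν] (bJ : Module.Basis ν k (kerP p))

theorem rcWith_eq_zero_of_basis (φ : ∀ a, Loc m n (V a)) (h : ∀ j, rcWith hp hs hV φ (bJ.coord j) hcov = 0)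
    (l : kerP p →ₗ[k] k) : rcWith hp hs hV φ l hcov = 0 := by
  classical
  have e : l = ∑ j, l (bJ j) • bJ.coord j := by
    refine bJ.ext fun i => ?_
    rw [LinearMap.sum_apply, Finset.sum_eq_single i]
    · simp
    · intro j _ hj
      simp [Finsupp.single_eq_of_ne hj]
    · exact fun h => absurd (Finset.mem_univ i) h
  rw [e]
  generalize (Finset.univ : Finset ν) = s
  induction s using Finset.induction with
  | empty =>
    have h0 := rcWith_add hp hs hV φ (0 : kerP p →ₗ[k] k) hcov 0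
    rw [add_zero] at h0
    exact left_eq_add.mp h0
  | insert j s hj ih => rw [Finset.sum_insert hj, rcWith_add, ih, rcWith_smul, h, smul_zero, add_zero]

theorem rc_eq_zero_of_basis (h : ∀ j, rc hp hs m n hV (bJ.coord j) hcov = 0) (l : kerP p →ₗ[k] k) :
    rc hp hs m n hV l hcov = 0 :=
  rcWith_eq_zero_of_basis hp hs hV hcov bJ _ h l

/-- The coordinates of the relative class. -/
def rcCoord (m : DefGlueLib.Mor p ξ ζ) (n : DefGlueLib.Mor p η ζ) (j : ν) : Coh.HH X (derSh x (𝟙 X)) 1 :=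
  rc hp hs m n hV (bJ.coord j) hcov

theorem rcCoord_eq_iff {η' : DefSch X x C'} (n' : DefGlueLib.Mor p η' ζ) :
    rcCoord hp hs hV hcov bJ m n = rcCoord hp hs hV hcov bJ m n' ↔ ExtIso n n' := by
  have e : ∀ l, rc hp hs m n' hV l hcov = rc hp hs m n hV l hcov + rc hp hs n n' hV l hcov :=
    fun l => rc_comp hp hs hV l hcov
  refine ⟨fun h => extIso_of_rc_eq_zero hp hs hV hcov (rc_eq_zero_of_basis hp hs hV hcov bJ fun j => ?_),
    fun h => funext fun j => ?_⟩
  · have h1 : rc hp hs m n hV (bJ.coord j) hcov = rc hp hs m n' hV (bJ.coord j) hcov := congrFun h j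
    rw [e] at h1
    exact left_eq_add.mp h1
  · show rc hp hs m n hV (bJ.coord j) hcov = rc hp hs m n' hV (bJ.coord j) hcov
    rw [e, rc_eq_zero_of_extIso hp hs hV hcov h, add_zero]

include hs hp in
theorem exists_rcCoord_eq [IsLocallyNoetherian X] [LocallyOfFiniteType x] (z : ν → Coh.HH X (derSh x (𝟙 X)) 1) :
    ∃ (η : DefSch X x C') (n : DefGlueLib.Mor p η ζ), rcCoord hp hs hV hcov bJ m n = z := by
  classical
  choose c hc using fun j => clsHom_surjective hcov (acyclic_derAb hV) (z j)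
  obtain ⟨η, n, φ, hφ⟩ := exists_realised hp hs (m := m) hV bJ c hcov
  refine ⟨η, n, funext fun j => (rc_eq hp hs hV φ _ hcov).trans ?_⟩
  rw [← hc]
  exact congrArg (clsHom hcov) (Subtype.ext (funext fun a => funext fun b => hφ j a b))

include hs hp hV hcov bJ in
theorem nonempty_equiv_pi [IsLocallyNoetherian X] [LocallyOfFiniteType x] (m : DefGlueLib.Mor p ξ ζ) :
    Nonempty (Quot (ExtEquiv p (ξ := ζ)) ≃ (ν → Coh.HH X (derSh x (𝟙 X)) 1)) := by
  refine ⟨Equiv.ofBijective (Quot.lift (fun a => rcCoord hp hs hV hcov bJ m (extMor a))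
    fun a b h => (rcCoord_eq_iff hp hs hV hcov bJ _).2 ((extEquiv_iff a b).1 h)) ⟨?_, fun z => ?_⟩⟩
  · rintro ⟨a⟩ ⟨b⟩ h
    exact Quot.sound ((extEquiv_iff a b).2 ((rcCoord_eq_iff hp hs hV hcov bJ _).1 h))
  · obtain ⟨η, n, hn⟩ := exists_rcCoord_eq hp hs hV hcov bJ (m := m) z
    obtain ⟨u, hu⟩ := exists_extMor_eq n
    exact ⟨Quot.mk _ ⟨η, u⟩, (congrArg (rcCoord hp hs hV hcov bJ m) hu).trans hn⟩

end Groth.Agent.DefExtLib
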