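import Groth.Agent.DefExtLib.Loc

/-! Differences of local isomorphisms of extensions as vector fields with values in the kernel. -/

set_option autoImplicit false
set_option backward.isDefEq.respectTransparency false
set_option backward.isDefEq.respectTransparency.types false
set_option linter.style.haveILetI false

universe u

open CategoryTheory CategoryTheory.Limits AlgebraicGeometry TopologicalSpace Opposite ArtFun ArtFun.Art IsLocalRing
open scoped TensorProduct

noncomputable section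

namespace Groth.Agent.DefExtLib

open LocHilbGlueLib DefGlueLib DefSchLib RigidLib DefClassLib

variable {k : Type u} [Field k] {X : Scheme.{u}} {x : X ⟶ specPt k} {C' C : Art k k} {p : C' ⟶ C}
  (hp : KilledKer p) (hs : Function.Surjective p)
  {ξ η η' : DefSch X x C'} {ζ : DefSch X x C} {m : DefGlueLib.Mor p ξ ζ} {n : DefGlueLib.Mor p η ζ}
  {n' : DefGlueLib.Mor p η' ζ}

/-- The kernel as a space. -/
abbrev kerP (p : C' ⟶ C) : Type u := ↥(RingHom.ker p.toAlgHom)

include hp hs in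
theorem exists_locDiff {W : X.Opens} (hW : IsAffineOpen W) (φ φ' : Loc m n W) :
    letI := algV x W
    ∃ δ : Γ(X, W) →+ Γ(X, W) ⊗[k] kerP p,
      (∀ r, mu hp (ringD η hW) (δ (piU ξ W r)) = φ'.φ r - φ.φ r) ∧ IsDer δ := by
  letI := algV x W
  obtain ⟨δ, h1, h2, h3⟩ := exists_homDiff hp (homD n hW) hs (φ.hom hW) (φ'.hom hW) fun r =>
    (ConcreteCategory.congr_hom φ.comm r).trans (ConcreteCategory.congr_hom φ'.comm r).symm
  exact ⟨δ, h1, h2, h3⟩

/-- The difference of two local isomorphisms. -/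
def locDiff {W : X.Opens} (hW : IsAffineOpen W) (φ φ' : Loc m n W) :
    letI := algV x W
    Γ(X, W) →+ Γ(X, W) ⊗[k] kerP p :=
  (exists_locDiff hp hs hW φ φ').choose

theorem mu_locDiff {W : X.Opens} (hW : IsAffineOpen W) (φ φ' : Loc m n W) (r : Γ(ξ.total, imU ξ W)) :
    letI := algV x W
    mu hp (ringD η hW) (locDiff hp hs hW φ φ' (piU ξ W r)) = φ'.φ r - φ.φ r :=
  (exists_locDiff hp hs hW φ φ').choose_spec.1 r

theorem isDer_locDiff {W : X.Opens} (hW : IsAffineOpen W) (φ φ' : Loc m n W) :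
    letI := algV x W
    IsDer (locDiff hp hs hW φ φ') :=
  (exists_locDiff hp hs hW φ φ').choose_spec.2

theorem locDiff_eq {W : X.Opens} (hW : IsAffineOpen W) (φ φ' : Loc m n W) (r : Γ(ξ.total, imU ξ W))
    (a : letI := algV x W; Γ(X, W) ⊗[k] kerP p)
    (ha : letI := algV x W; mu hp (ringD η hW) a = φ'.φ r - φ.φ r) :
    locDiff hp hs hW φ φ' (piU ξ W r) = a := by
  letI := algV x W
  exact mu_injective hp _ ((mu_locDiff hp hs hW φ φ' r).trans ha.symm)

theorem locDiff_add {W : X.Opens} (hW : IsAffineOpen W) (φ φ' φ'' : Loc m n W) (v : Γ(X, W)) :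
    locDiff hp hs hW φ φ' v + locDiff hp hs hW φ' φ'' v = locDiff hp hs hW φ φ'' v := by
  letI := algV x W
  obtain ⟨r, rfl⟩ := piU_surjective ξ hW v
  refine (locDiff_eq hp hs hW φ φ'' r _ ?_).symm
  rw [map_add, mu_locDiff, mu_locDiff]
  abel

/-- Composition of local isomorphisms. -/
def Loc.comp {W : X.Opens} (φ : Loc m n W) (ψ : Loc n n' W) : Loc m n' W where
  φ := φ.φ ≫ ψ.φ
  str := by rw [← Category.assoc, φ.str, ψ.str]
  π := by rw [Category.assoc, ψ.π, φ.π]
  comm := by rw [Category.assoc, ψ.comm, φ.comm]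

theorem locDiff_comp {W : X.Opens} (hW : IsAffineOpen W) (φ φ' : Loc m n W) (ψ ψ' : Loc n n' W) (v : Γ(X, W)) :
    locDiff hp hs hW (φ.comp ψ) (φ'.comp ψ') v = locDiff hp hs hW φ φ' v + locDiff hp hs hW ψ ψ' v := by
  letI := algV x W
  obtain ⟨r, rfl⟩ := piU_surjective ξ hW v
  refine locDiff_eq hp hs hW _ _ r _ ?_
  have e1 : ψ.φ (mu hp (ringD η hW) (locDiff hp hs hW φ φ' (piU ξ W r))) =
      mu hp (ringD η' hW) (locDiff hp hs hW φ φ' (piU ξ W r)) := by
    refine (mu_map hp hp (D' := ringD η hW) (D₁ := ringD η' hW) (RingHom.id C') (ψ.φ.hom)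
      (fun c => ConcreteCategory.congr_hom ψ.str c) (AlgHom.id k _)
      (fun t => ConcreteCategory.congr_hom ψ.π t) LinearMap.id (fun _ => rfl) _).trans ?_
    exact congrArg _ (LinearMap.congr_fun TensorProduct.map_id _)
  rw [mu_locDiff, map_sub] at e1
  have e2 := mu_locDiff hp hs hW ψ ψ' (φ'.φ r)
  rw [show piU η W (φ'.φ r) = piU ξ W r from ConcreteCategory.congr_hom φ'.π r] at e2
  show _ = ψ'.φ (φ'.φ r) - ψ.φ (φ.φ r)
  rw [map_add, ← e1, e2]
  abel

theorem locDiff_res [Smooth x] {V W : X.Opens} (hV : IsAffineOpen V) (hW : IsAffineOpen W) (h : W ≤ V)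
    (φ φ' : Loc m n V) (v : Γ(X, V)) :
    letI := algV x W
    letI := algV x V
    ∀ (ρ : Γ(X, V) →ₐ[k] Γ(X, W)), (∀ t, ρ t = X.presheaf.map (homOfLE h).op t) →
    locDiff hp hs hW (φ.res hV hW h) (φ'.res hV hW h) (X.presheaf.map (homOfLE h).op v) =
      TensorProduct.map ρ.toLinearMap LinearMap.id (locDiff hp hs hV φ φ' v) := by
  intro ρ hρ
  letI := algV x W
  letI := algV x V
  obtain ⟨r, rfl⟩ := piU_surjective ξ hV v
  rw [← CommRingCat.comp_apply, ← piU_res ξ h, CommRingCat.comp_apply]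
  refine locDiff_eq hp hs hW _ _ _ _ ?_
  rw [← mu_map hp hp (D' := ringD η hV) (D₁ := ringD η hW) (RingHom.id C') (resR η h).hom
    (fun c => ConcreteCategory.congr_hom (strU_res η h) c) ρ
    (fun t => (ConcreteCategory.congr_hom (piU_res η h) t).trans (hρ _).symm) LinearMap.id (fun _ => rfl),
    mu_locDiff, map_sub]
  rw [← CommRingCat.comp_apply, ← CommRingCat.comp_apply, ← φ.res_spec hV hW h, ← φ'.res_spec hV hW h]
  rfl

include hp hs in
theorem exists_shiftLoc {W : X.Opens} (hW : IsAffineOpen W) (φ : Loc m n W)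
    (δ : letI := algV x W; Γ(X, W) →+ Γ(X, W) ⊗[k] kerP p) (hδ : letI := algV x W; IsDer δ) :
    letI := algV x W
    ∃ φ' : Loc m n W, ∀ r, φ'.φ r = φ.φ r + mu hp (ringD η hW) (δ (piU ξ W r)) := by
  letI := algV x W
  obtain ⟨F, h1, h2⟩ := exists_shiftHom hp (homD n hW) hs (φ.hom hW) hδ
  exact ⟨⟨CommRingCat.ofHom F.φ, CommRingCat.hom_ext (RingHom.ext F.φ_str),
    CommRingCat.hom_ext (RingHom.ext F.π_φ),
    CommRingCat.hom_ext (RingHom.ext fun r => (h2 r).trans (ConcreteCategory.congr_hom φ.comm r))⟩, h1⟩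

variable [QuasiSeparated x]

/-- The value of a vector field on a function. -/
abbrev vval {W : X.Opens} (s : Γ(derSh x (𝟙 X), W)) (r : Γ(X, W)) : Γ(X, W) := val x (𝟙 X) s r

include hp hs in
theorem exists_locSect {W : X.Opens} (hW : IsAffineOpen W) (φ φ' : Loc m n W) (l : kerP p →ₗ[k] k) :
    letI := algV x W
    ∃ s : Γ(derSh x (𝟙 X), W), ∀ r, vval s r = coef l (locDiff hp hs hW φ φ' r) := by
  letI := algV x W
  let D : Γ(X, W) →+ Γ(X, W) := (coef l).toAddMonoidHom.comp (locDiff hp hs hW φ φ')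
  refine exists_val x (𝟙 X) hW D (fun r s => ?_) fun c => ?_
  · show coef l (locDiff hp hs hW φ φ' (r * s)) = r * _ + s * _
    rw [(isDer_locDiff hp hs hW φ φ').mul, map_add, coef_smul, coef_smul]
    rfl
  · show coef l (locDiff hp hs hW φ φ' (algR x W c)) = 0
    rw [show algR x W c = algebraMap k Γ(X, W) c from rfl, (isDer_locDiff hp hs hW φ φ').alg, map_zero]

/-- The difference as a section. -/
def locSect {W : X.Opens} (hW : IsAffineOpen W) (φ φ' : Loc m n W) (l : kerP p →ₗ[k] k) : Γ(derSh x (𝟙 X), W) :=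
  (exists_locSect hp hs hW φ φ' l).choose

theorem val_locSect {W : X.Opens} (hW : IsAffineOpen W) (φ φ' : Loc m n W) (l : kerP p →ₗ[k] k) (r : Γ(X, W)) :
    letI := algV x W
    vval (locSect hp hs hW φ φ' l) r = coef l (locDiff hp hs hW φ φ' r) :=
  (exists_locSect hp hs hW φ φ' l).choose_spec r

theorem locSect_cocycle {W : X.Opens} (hW : IsAffineOpen W) (φ φ' φ'' : Loc m n W) (l : kerP p →ₗ[k] k) :
    locSect hp hs hW φ φ' l + locSect hp hs hW φ' φ'' l = locSect hp hs hW φ φ'' l := by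
  refine val_ext x (𝟙 X) hW fun r => ?_
  letI := algV x W
  rw [val_add]
  exact (congrArg₂ (· + ·) (val_locSect hp hs hW φ φ' l r) (val_locSect hp hs hW φ' φ'' l r)).trans
    (((map_add (coef l) _ _).symm.trans (congrArg (coef l) (locDiff_add hp hs hW φ φ' φ'' r))).trans
      (val_locSect hp hs hW φ φ'' l r).symm)

theorem locSect_add {W : X.Opens} (hW : IsAffineOpen W) (φ φ' : Loc m n W) (l l' : kerP p →ₗ[k] k) :
    locSect hp hs hW φ φ' (l + l') = locSect hp hs hW φ φ' l + locSect hp hs hW φ φ' l' := by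
  refine val_ext x (𝟙 X) hW fun r => ?_
  letI := algV x W
  rw [val_add]
  exact ((val_locSect hp hs hW φ φ' _ r).trans (coef_add l l' _)).trans
    (congrArg₂ (· + ·) (val_locSect hp hs hW φ φ' l r) (val_locSect hp hs hW φ φ' l' r)).symm

theorem locSect_smul {W : X.Opens} (hW : IsAffineOpen W) (φ φ' : Loc m n W) (c : k) (l : kerP p →ₗ[k] k) :
    locSect hp hs hW φ φ' (c • l) = algR x W c • locSect hp hs hW φ φ' l := by
  refine val_ext x (𝟙 X) hW fun r => ?_
  letI := algV x W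
  rw [val_smul]
  exact ((val_locSect hp hs hW φ φ' _ r).trans (coef_smul_left c l _)).trans
    ((Algebra.smul_def c _).trans (congrArg (algR x W c * ·) (val_locSect hp hs hW φ φ' l r).symm))

theorem locSect_comp {W : X.Opens} (hW : IsAffineOpen W) (φ φ' : Loc m n W) (ψ ψ' : Loc n n' W)
    (l : kerP p →ₗ[k] k) :
    locSect hp hs hW (φ.comp ψ) (φ'.comp ψ') l = locSect hp hs hW φ φ' l + locSect hp hs hW ψ ψ' l := by
  refine val_ext x (𝟙 X) hW fun r => ?_
  letI := algV x W
  rw [val_add]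
  exact ((val_locSect hp hs hW _ _ l r).trans ((congrArg (coef l) (locDiff_comp hp hs hW φ φ' ψ ψ' r)).trans
    (map_add (coef l) _ _))).trans
    (congrArg₂ (· + ·) (val_locSect hp hs hW φ φ' l r) (val_locSect hp hs hW ψ ψ' l r)).symm

theorem rD_locSect [Smooth x] {V W : X.Opens} (hV : IsAffineOpen V) (hW : IsAffineOpen W) (h : W ≤ V)
    (φ φ' : Loc m n V) (l : kerP p →ₗ[k] k) :
    rD x (𝟙 X) h (locSect hp hs hV φ φ' l) = locSect hp hs hW (φ.res hV hW h) (φ'.res hV hW h) l := by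
  letI := algV x V
  letI := algV x W
  refine rD_eq x (𝟙 X) hW hV h _ _ fun r => ?_
  let ρ : Γ(X, V) →ₐ[k] Γ(X, W) :=
    { (X.presheaf.map (homOfLE h).op).hom with
      commutes' := fun c => ConcreteCategory.congr_hom (algR_res x h) c }
  show vval _ _ = X.presheaf.map _ (vval _ r)
  rw [val_locSect, val_locSect]
  exact (congrArg (coef l) (locDiff_res hp hs hV hW h φ φ' r ρ fun _ => rfl)).trans (coef_map ρ LinearMap.id l _)

theorem eq_of_locSect {W : X.Opens} (hW : IsAffineOpen W) (φ φ' : Loc m n W)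
    (h : ∀ l, locSect hp hs hW φ φ' l = 0) : φ = φ' := by
  letI := algV x W
  refine Loc.ext (CommRingCat.hom_ext (RingHom.ext fun r => (sub_eq_zero.mp ?_).symm))
  rw [← mu_locDiff hp hs hW φ φ' r]
  refine (congrArg _ (eq_zero_of_coef fun l => ?_)).trans (map_zero _)
  rw [← val_locSect hp hs hW φ φ' l, h]
  exact val_zero x (𝟙 X) _

end Groth.Agent.DefExtLib
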