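import Groth.Agent.DefGlueLib.SubFam
import Groth.Agent.DefGlueLib.OfSch
import Groth.Agent.DefClassLib.Chart
import Groth.Agent.DefClassLib.Embed

/-! A morphism of deformations from compatible maps of functions on a basis of affine opens. -/

set_option autoImplicit false
set_option backward.isDefEq.respectTransparency false
set_option backward.isDefEq.respectTransparency.types false
set_option linter.style.haveILetI false

universe u

open CategoryTheory CategoryTheory.Limits AlgebraicGeometry TopologicalSpace Opposite ArtFun ArtFun.Art IsLocalRing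

noncomputable section

namespace Groth.Agent.DefExtLib

open LocHilbGlueLib DefGlueLib RigidLib DefClassLib

variable {k : Type u} [Field k] {X : Scheme.{u}} {x : X ⟶ specPt k} {A B : Art k k} {g : A ⟶ B}
  {P : X.AffineZariskiSite → Prop} (hP : IsSub P) {ξ : DefSch X x A} {η : DefSch X x B}
  (f : ∀ U : Sub P, Γ(ξ.total, imU ξ U.1.toOpens) ⟶ Γ(η.total, imU η U.1.toOpens))

/-- The morphism on one piece. -/
def localMap (U : Sub P) : (imU η U.1.toOpens).toScheme ⟶ ξ.total :=
  (isAffineOpen_imU η U.1.2).isoSpec.hom ≫ Spec.map (f U) ≫ (isAffineOpen_imU ξ U.1.2).fromSpec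

variable (hnat : ∀ {U V : Sub P} (h : V ⟶ U),
  resR ξ (Scheme.AffineZariskiSite.toOpens_mono h.le) ≫ f V = f U ≫ resR η (Scheme.AffineZariskiSite.toOpens_mono h.le))

include hnat in
theorem homOfLE_localMap {U V : Sub P} (h : V ⟶ U) :
    η.total.homOfLE (imU_mono η (Scheme.AffineZariskiSite.toOpens_mono h.le)) ≫ localMap f U = localMap f V := by
  unfold localMap
  rw [← Category.assoc, homOfLE_isoSpec (isAffineOpen_imU η U.1.2) (isAffineOpen_imU η V.1.2), Category.assoc,
    ← Category.assoc (Spec.map _) (Spec.map (f U)), ← Spec.map_comp, ← hnat h, Spec.map_comp, Category.assoc,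
    IsAffineOpen.map_fromSpec]

include hP hnat in
theorem exists_mor_of_local (hstr : ∀ U, strU ξ _ ≫ f U = CommRingCat.ofHom g.toAlgHom.toRingHom ≫ strU η _)
    (hπ : ∀ U, f U ≫ piU η _ = piU ξ _) :
    ∃ m : DefGlueLib.Mor g ξ η, ∀ U, m.ψ.appLE (imU ξ U.1.toOpens) (imU η U.1.toOpens) (m.preimage_imU _).ge = f U := by
  haveI : Fact (IsSub P) := ⟨hP⟩
  let O := fun U : Sub P => imU η U.1.toOpens
  have hO : IsOpenCover O := TopologicalSpace.IsOpenCover.mk (top_unique fun z _ => by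
    obtain ⟨w, rfl⟩ := (i_bijective η).2 z
    obtain ⟨U, hU⟩ := hP.cover w
    exact Opens.mem_iSup.mpr ⟨U, w, hU, rfl⟩)
  let 𝒰 := η.total.openCoverOfIsOpenCover O hO
  have hcompat : ∀ U V, pullback.fst (O U).ι (O V).ι ≫ localMap f U = pullback.snd (O U).ι (O V).ι ≫ localMap f V := by
    intro U V
    have hp : IsPullback (η.total.homOfLE (inf_le_left : O U ⊓ O V ≤ O U))
        (η.total.homOfLE (inf_le_right : O U ⊓ O V ≤ O V)) (O U).ι (O V).ι := isPullback_opens_inf _ _
    rw [← cancel_epi hp.isoPullback.hom, hp.isoPullback_hom_fst_assoc, hp.isoPullback_hom_snd_assoc]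
    refine Scheme.hom_ext_of_forall _ _ fun q => ?_
    obtain ⟨w, hw⟩ := (i_bijective η).2 ((O U ⊓ O V).ι q)
    have hq : η.i w ∈ O U ⊓ O V := hw ▸ q.2
    obtain ⟨a, ha, hae⟩ := hq.1
    obtain ⟨b, hb, hbe⟩ := hq.2
    obtain rfl := (i_bijective η).1 hae
    obtain rfl := (i_bijective η).1 hbe
    obtain ⟨W, f₁, f₂, hwW⟩ := SFam.exists_common (P := P) ha hb
    have hle : O W ≤ O U ⊓ O V := le_inf (imU_mono η (Scheme.AffineZariskiSite.toOpens_mono f₁.le))
      (imU_mono η (Scheme.AffineZariskiSite.toOpens_mono f₂.le))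
    refine ⟨(η.total.homOfLE hle).opensRange, ⟨⟨η.i _, _, hwW, rfl⟩, ?_⟩, ?_⟩
    · apply (O U ⊓ O V).ι.isOpenEmbedding.injective
      rw [← Scheme.Hom.comp_apply, Scheme.homOfLE_ι]
      exact hw
    · rw [← cancel_epi (η.total.homOfLE hle).isoOpensRange.hom, Scheme.Hom.isoOpensRange_hom_ι_assoc,
        Scheme.Hom.isoOpensRange_hom_ι_assoc]
      simp only [← Category.assoc, Scheme.homOfLE_homOfLE]
      exact (homOfLE_localMap f hnat f₁).trans (homOfLE_localMap f hnat f₂).symm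
  let ψ := 𝒰.glueMorphisms (fun U => localMap f U) hcompat
  have hψ : ∀ U, (O U).ι ≫ ψ = localMap f U := fun U => 𝒰.ι_glueMorphisms _ hcompat U
  have hfs : ∀ U : Sub P, (isAffineOpen_imU η U.1.2).fromSpec ≫ ψ =
      Spec.map (f U) ≫ (isAffineOpen_imU ξ U.1.2).fromSpec := fun U => by
    rw [← IsAffineOpen.isoSpec_inv_ι, Category.assoc]
    erw [hψ U]
    rw [localMap, Iso.inv_hom_id_assoc]
  have hw : ψ ≫ ξ.f = η.f ≫ specMap g := by
    refine 𝒰.hom_ext _ _ fun U => ?_
    show (O U).ι ≫ _ = (O U).ι ≫ _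
    rw [← cancel_epi (isAffineOpen_imU η U.1.2).isoSpec.inv, ← Category.assoc, ← Category.assoc, ← Category.assoc,
      ← Category.assoc]
    erw [IsAffineOpen.isoSpec_inv_ι]
    rw [hfs, Category.assoc, ← specMap_strU ξ, ← specMap_strU η, ← Spec.map_comp, hstr U, Spec.map_comp]
  have hi : η.i ≫ ψ = ξ.i := by
    refine SFam.hom_ext_fs (P := P) fun U => ?_
    have e1 : SFam.fs U ≫ η.i = Spec.map (piU η U.1.toOpens) ≫ (isAffineOpen_imU η U.1.2).fromSpec :=
      (IsAffineOpen.SpecMap_appLE_fromSpec η.i (isAffineOpen_imU η U.1.2) U.1.2 (DefGlueLib.preimage_imU η _).ge).symm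
    have e2 : SFam.fs U ≫ ξ.i = Spec.map (piU ξ U.1.toOpens) ≫ (isAffineOpen_imU ξ U.1.2).fromSpec :=
      (IsAffineOpen.SpecMap_appLE_fromSpec ξ.i (isAffineOpen_imU ξ U.1.2) U.1.2 (DefGlueLib.preimage_imU ξ _).ge).symm
    rw [← Category.assoc, e1, Category.assoc, hfs, e2, ← Category.assoc, ← Spec.map_comp, hπ U]
  let m : DefGlueLib.Mor g ξ η := ⟨ψ, hw, hi⟩
  refine ⟨m, fun U => Spec.map_injective ?_⟩
  rw [← cancel_mono (isAffineOpen_imU ξ U.1.2).fromSpec, IsAffineOpen.SpecMap_appLE_fromSpec _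
    (isAffineOpen_imU ξ U.1.2) (isAffineOpen_imU η U.1.2)]
  exact hfs U

end Groth.Agent.DefExtLib

namespace Groth.Agent.DefExtLib

open LocHilbGlueLib DefGlueLib RigidLib DefClassLib

variable {k : Type u} [Field k] {X : Scheme.{u}} {x : X ⟶ specPt k} {A B : Art k k} {g : A ⟶ B}
  {P : X.AffineZariskiSite → Prop}

theorem mor_ext (hP : IsSub P) {ξ : DefSch X x A} {η : DefSch X x B} {m m' : DefGlueLib.Mor g ξ η}
    (h : ∀ U : Sub P, m.ψ.appLE (imU ξ U.1.toOpens) (imU η U.1.toOpens) (m.preimage_imU _).ge =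
      m'.ψ.appLE (imU ξ U.1.toOpens) (imU η U.1.toOpens) (m'.preimage_imU _).ge) : m.ψ = m'.ψ := by
  have hO : IsOpenCover (fun U : Sub P => imU η U.1.toOpens) := TopologicalSpace.IsOpenCover.mk
    (top_unique fun z _ => by
      obtain ⟨w, rfl⟩ := (i_bijective η).2 z
      obtain ⟨U, hU⟩ := hP.cover w
      exact Opens.mem_iSup.mpr ⟨U, w, hU, rfl⟩)
  refine (η.total.openCoverOfIsOpenCover _ hO).hom_ext _ _ fun U => ?_
  show (imU η U.1.toOpens).ι ≫ _ = (imU η U.1.toOpens).ι ≫ _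
  rw [← cancel_epi (isAffineOpen_imU η U.1.2).isoSpec.inv, ← Category.assoc, ← Category.assoc]
  erw [IsAffineOpen.isoSpec_inv_ι]
  rw [← IsAffineOpen.SpecMap_appLE_fromSpec m.ψ (isAffineOpen_imU ξ U.1.2) (isAffineOpen_imU η U.1.2)
    (m.preimage_imU _).ge, h U, IsAffineOpen.SpecMap_appLE_fromSpec]

variable {ι : Type u} (V : ι → X.Opens)

/-- The affine opens inside the members of a covering. -/
def Fine (U : X.AffineZariskiSite) : Prop := ∃ a, U.toOpens ≤ V a

theorem isSub_fine (hcov : ⊤ ≤ iSup V) : IsSub (Fine V) where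
  down h := fun ⟨a, ha⟩ => ⟨a, (Scheme.AffineZariskiSite.toOpens_mono h).trans ha⟩
  cover p := by
    obtain ⟨a, ha⟩ := Opens.mem_iSup.mp (hcov (show p ∈ (⊤ : X.Opens) from trivial))
    obtain ⟨_, ⟨U, hU, rfl⟩, hp, hle⟩ := X.isBasis_affineOpens.exists_subset_of_mem_open ha (V a).2
    exact ⟨⟨⟨U, hU⟩, a, hle⟩, hp⟩

variable {V}

/-- A member containing a fine open. -/
def Fine.idx {U : X.AffineZariskiSite} (h : Fine V U) : ι := h.choose

theorem Fine.le {U : X.AffineZariskiSite} (h : Fine V U) : U.toOpens ≤ V h.idx := h.choose_spec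

end Groth.Agent.DefExtLib
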