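import Groth.Agent.DefExtLib.Glue
import Groth.Agent.DefExtLib.Class

/-! Extensions with vanishing relative class are isomorphic. -/

set_option autoImplicit false
set_option backward.isDefEq.respectTransparency false
set_option backward.isDefEq.respectTransparency.types false
set_option linter.style.haveILetI false

universe u

open CategoryTheory CategoryTheory.Limits AlgebraicGeometry TopologicalSpace Opposite ArtFun ArtFun.Art IsLocalRing

noncomputable section

namespace Groth.Agent.DefExtLib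

open LocHilbGlueLib DefGlueLib DefSchLib RigidLib DefClassLib

variable {k : Type u} [Field k] {X : Scheme.{u}} {x : X ⟶ specPt k} [Smooth x] [IsSeparated x]
  {C' C : Art k k} {p : C' ⟶ C} (hp : KilledKer p) (hs : Function.Surjective p)
  {ξ η : DefSch X x C'} {ζ : DefSch X x C} {m : DefGlueLib.Mor p ξ ζ} {n : DefGlueLib.Mor p η ζ}
  {ι : Type u} {V : ι → X.Opens} (hV : ∀ a, IsAffineOpen (V a)) (hcov : ⊤ ≤ iSup V)

/-- An isomorphism of extensions. -/
def ExtIso (m : DefGlueLib.Mor p ξ ζ) (n : DefGlueLib.Mor p η ζ) : Prop :=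
  ∃ μ : DefGlueLib.Mor (𝟙 C') ξ η, n.ψ ≫ μ.ψ = m.ψ

theorem exists_extIso_of_agreeing (φ : ∀ a, Loc m n (V a))
    (hφ : ∀ a b (W : X.Opens) (hW : IsAffineOpen W) (ha : W ≤ V a) (hb : W ≤ V b),
      (φ a).res (hV a) hW ha = (φ b).res (hV b) hW hb) (hcov : ⊤ ≤ iSup V) : ExtIso m n := by
  have hP := isSub_fine V hcov
  let f : ∀ U : Sub (Fine V), Loc m n U.1.toOpens := fun U => (φ U.2.idx).res (hV _) U.1.2 U.2.le
  have hnat : ∀ {U U' : Sub (Fine V)} (h : U' ⟶ U),
      resR ξ (Scheme.AffineZariskiSite.toOpens_mono h.le) ≫ (f U').φ =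
        (f U).φ ≫ resR η (Scheme.AffineZariskiSite.toOpens_mono h.le) := fun {U U'} h => by
    have e : (f U).res U.1.2 U'.1.2 (Scheme.AffineZariskiSite.toOpens_mono h.le) = f U' :=
      (Loc.res_res (hV _) U.1.2 U'.1.2 U.2.le _ _).trans (hφ _ _ _ U'.1.2 _ U'.2.le)
    rw [← e]
    exact (f U).res_spec _ _ _
  obtain ⟨μ, hμ⟩ := exists_mor_of_local (g := 𝟙 C') hP (fun U => (f U).φ) hnat (fun U => (f U).str.trans (by
    rw [show CommRingCat.ofHom (𝟙 C' : C' ⟶ C').toAlgHom.toRingHom = 𝟙 _ from rfl, Category.id_comp]))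
    fun U => (f U).π
  refine ⟨μ, ?_⟩
  let μn : DefGlueLib.Mor p ξ ζ :=
    ⟨n.ψ ≫ μ.ψ, by rw [Category.assoc, μ.w, specMap_id, Category.comp_id, n.w], by rw [← Category.assoc, n.i, μ.i]⟩
  refine mor_ext hP (m := μn) (m' := m) fun U => ?_
  refine Eq.trans ?_ (f U).comm
  show (n.ψ ≫ μ.ψ).appLE _ _ _ = (f U).φ ≫ mR n _
  rw [← hμ U]
  exact (Scheme.Hom.appLE_comp_appLE _ _ _ _ _ _ _).symm

theorem extIso_of_rc_eq_zero (h0 : ∀ l, rc hp hs m n hV l hcov = 0) : ExtIso m n := by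
  obtain ⟨φ, hφ⟩ := exists_agreeing_locs hp hs hV hcov h0
  exact exists_extIso_of_agreeing hV φ hφ hcov

/-- The local isomorphism given by an isomorphism of extensions. -/
def Loc.ofExtIso {μ : DefGlueLib.Mor (𝟙 C') ξ η} (hμ : n.ψ ≫ μ.ψ = m.ψ) {W : X.Opens} (hW : IsAffineOpen W) :
    Loc m n W where
  φ := mR μ W
  str := by
    rw [mR_str μ hW, show CommRingCat.ofHom (𝟙 C' : C' ⟶ C').toAlgHom.toRingHom = 𝟙 _ from rfl, Category.id_comp]
  π := by simp [piU, Scheme.Hom.appLE_comp_appLE, μ.i]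
  comm := by
    simp only [mR, Scheme.Hom.appLE_comp_appLE, hμ]

theorem Loc.ofExtIso_res {μ : DefGlueLib.Mor (𝟙 C') ξ η} (hμ : n.ψ ≫ μ.ψ = m.ψ) {U W : X.Opens}
    (hU : IsAffineOpen U) (hW : IsAffineOpen W) (h : W ≤ U) :
    (Loc.ofExtIso hμ hU).res hU hW h = Loc.ofExtIso hμ hW :=
  Loc.res_unique hU hW h _ _ (mR_res μ h)

theorem rcWith_eq_zero (φ : ∀ a, Loc m n (V a))
    (hφ : ∀ a b (W : X.Opens) (hW : IsAffineOpen W) (ha : W ≤ V a) (hb : W ≤ V b),
      (φ a).res (hV a) hW ha = (φ b).res (hV b) hW hb) (l : kerP p →ₗ[k] k) :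
    rcWith hp hs hV φ l hcov = 0 := by
  refine clsHom_eq_zero_of_coboundary hcov _ (fun _ => 0) fun a b => ?_
  show _ = rOverlap hp hs hV φ l a b
  rw [rOverlap, hφ a b _ (affine_inf (y := x) (hV a) (hV b)) inf_le_left inf_le_right, map_zero, map_zero, sub_zero]
  have e2 := locSect_cocycle hp hs (affine_inf (y := x) (hV a) (hV b))
    ((φ b).res (hV b) (affine_inf (y := x) (hV a) (hV b)) inf_le_right)
    ((φ b).res (hV b) (affine_inf (y := x) (hV a) (hV b)) inf_le_right)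
    ((φ b).res (hV b) (affine_inf (y := x) (hV a) (hV b)) inf_le_right) l
  exact (add_eq_left.mp e2).symm

theorem rc_eq_zero_of_extIso (h : ExtIso m n) (l : kerP p →ₗ[k] k) : rc hp hs m n hV l hcov = 0 :=
  (rc_eq hp hs hV (fun a => Loc.ofExtIso h.choose_spec (hV a)) l hcov).trans
    (rcWith_eq_zero hp hs hV hcov _ (fun a b W hW ha hb =>
      (Loc.ofExtIso_res h.choose_spec (hV a) hW ha).trans (Loc.ofExtIso_res h.choose_spec (hV b) hW hb).symm) l)

end Groth.Agent.DefExtLib
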