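import Groth.Agent.DefGlueLib.SubFam
import Groth.Agent.DefGlueLib.OfSch

/-! The functions on the pieces of a deformation glued from rings on a subsite. -/

set_option autoImplicit false
set_option backward.isDefEq.respectTransparency false
set_option backward.isDefEq.respectTransparency.types false
set_option linter.style.haveILetI false

universe u

open CategoryTheory CategoryTheory.Limits AlgebraicGeometry TopologicalSpace Opposite ArtFun ArtFun.Art IsLocalRing

noncomputable section

namespace Groth.Agent.DefExtLib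

open LocHilbGlueLib DefGlueLib RigidLib

variable {k : Type u} [Field k] {X : Scheme.{u}} {x : X ⟶ specPt k} {A : Art k k}
  {P : X.AffineZariskiSite → Prop} [Fact (IsSub P)] (F : SFam x A P)

theorem imU_glue (U : Sub P) : imU F.glue U.1.toOpens = (F.ι U).opensRange := by
  rw [← F.preimage_opensRange U]
  exact eq_imU F.glue _

theorem range_fromSpec (U : Sub P) :
    Set.range (isAffineOpen_imU F.glue U.1.2).fromSpec = Set.range (F.ι U) :=
  (isAffineOpen_imU F.glue U.1.2).range_fromSpec.trans (congrArg SetLike.coe (imU_glue F U))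

theorem exists_toGlue (U : Sub P) : ∃ j : F.R.obj (op U) ⟶ Γ(F.glue.total, imU F.glue U.1.toOpens),
    IsIso j ∧ Spec.map j ≫ F.ι U = (isAffineOpen_imU F.glue U.1.2).fromSpec := by
  have h : Set.range (isAffineOpen_imU F.glue U.1.2).fromSpec = Set.range (F.ι U) :=
    range_fromSpec F U
  let e := IsOpenImmersion.isoOfRangeEq (isAffineOpen_imU F.glue U.1.2).fromSpec (F.ι U) h
  refine ⟨Spec.preimage e.hom, ?_, ?_⟩
  · refine ⟨Spec.preimage e.inv, ?_, ?_⟩ <;> apply Spec.map_injective <;> simp
  · rw [Spec.map_preimage, IsOpenImmersion.isoOfRangeEq_hom_fac]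

/-- The functions on one piece of the glued deformation. -/
def toGlue (U : Sub P) : F.R.obj (op U) ⟶ Γ(F.glue.total, imU F.glue U.1.toOpens) := (exists_toGlue F U).choose

instance (U : Sub P) : IsIso (toGlue F U) := (exists_toGlue F U).choose_spec.1

theorem toGlue_spec (U : Sub P) : Spec.map (toGlue F U) ≫ F.ι U = (isAffineOpen_imU F.glue U.1.2).fromSpec :=
  (exists_toGlue F U).choose_spec.2

theorem toGlue_nat {U V : Sub P} (h : V ⟶ U) :
    F.R.map h.op ≫ toGlue F V =
      toGlue F U ≫ F.glue.total.presheaf.map (homOfLE (imU_mono F.glue (Scheme.AffineZariskiSite.toOpens_mono h.le))).op := by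
  refine Spec.map_injective ?_
  rw [← cancel_mono (F.ι U), Spec.map_comp, Spec.map_comp, Category.assoc, Category.assoc, toGlue_spec,
    show Spec.map (F.R.map h.op) ≫ F.ι U = F.ι V from F.w_ι h, toGlue_spec]
  exact (IsAffineOpen.map_fromSpec _ _ _).symm

theorem toGlue_str (U : Sub P) : F.str (op U) ≫ toGlue F U = strU F.glue (imU F.glue U.1.toOpens) := by
  refine Spec.map_injective ?_
  rw [specMap_strU F.glue (isAffineOpen_imU F.glue U.1.2), Spec.map_comp, ← toGlue_spec, Category.assoc]
  congr 1
  exact (F.ι_f U).symm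

theorem toGlue_π (U : Sub P) : toGlue F U ≫ piU F.glue U.1.toOpens = F.π (op U) := by
  refine Spec.map_injective ?_
  rw [← cancel_mono (F.ι U), Spec.map_comp, Category.assoc, toGlue_spec]
  exact (IsAffineOpen.SpecMap_appLE_fromSpec F.glue.i (isAffineOpen_imU F.glue U.1.2) U.1.2
    (DefGlueLib.preimage_imU F.glue _).ge).trans (F.fs_i U)

end Groth.Agent.DefExtLib
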