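import Groth.Agent.DefExtLib.Obs
import Groth.Agent.DefExtLib.SubChart
import Groth.Agent.DefExtLib.Glue

/-! Lifting deformations of a smooth separated scheme with vanishing second cohomology of the vector fields. -/

set_option autoImplicit false
set_option backward.isDefEq.respectTransparency false
set_option backward.isDefEq.respectTransparency.types false
set_option linter.style.haveILetI false

universe u

open CategoryTheory CategoryTheory.Limits AlgebraicGeometry TopologicalSpace Opposite ArtFun ArtFun.Art IsLocalRing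

noncomputable section

namespace Groth.Agent.DefExtLib

open LocHilbGlueLib DefGlueLib DefSchLib RigidLib DefClassLib CohBase H1ClassLib

variable {k : Type u} [Field k] {X : Scheme.{u}} {x : X ⟶ specPt k} [Smooth x] [IsSeparated x]
  {C' C : Art k k} {p : C' ⟶ C} {ξ : DefSch X x C} {ι : Type u} {V : ι → X.Opens} (hV : ∀ a, IsAffineOpen (V a))

theorem ofHom_id' (A : Art k k) : CommRingCat.ofHom (𝟙 A : A ⟶ A).toAlgHom.toRingHom = 𝟙 _ := rfl

theorem PHom.eq_id_of_mul {A : Art k k} {T : DefSch X x A} {W : X.Opens} (hW : IsAffineOpen W)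
    (φ : PHom (𝟙 A) T T W) (h : φ.mul φ = φ) : φ.φ = 𝟙 _ := by
  letI := algV x W
  have hinj : Function.Injective φ.φ.hom := by
    have h1 := (φ.hom hW).toIso.e.bijective.1
    exact h1
  exact CommRingCat.hom_ext (RingHom.ext fun r => hinj (ConcreteCategory.congr_hom (congrArg PHom.φ h) r))

variable (φ : ∀ a b, PHom (𝟙 C') (triv x C') (triv x C') (V a ⊓ V b))

/-- The cocycle condition. -/
def IsCocy : Prop :=
  ∀ (a b c : ι) (U : X.Opens) (hU : IsAffineOpen U) (ha : U ≤ V a) (hb : U ≤ V b) (hc : U ≤ V c),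
    (trRes hV hU φ a b ha hb).mul (trRes hV hU φ b c hb hc) = trRes hV hU φ a c ha hc

theorem trRes_self (hc : IsCocy hV φ) (a : ι) {U : X.Opens} (hU : IsAffineOpen U) (ha : U ≤ V a) :
    (trRes hV hU φ a a ha ha).φ = 𝟙 _ :=
  PHom.eq_id_of_mul hU _ (hc a a a U hU ha ha ha)

theorem res_trRes {U U' : X.Opens} (hU : IsAffineOpen U) (hU' : IsAffineOpen U') (h : U' ≤ U) (a b : ι) (ha : U ≤ V a)
    (hb : U ≤ V b) : resR (triv x C') h ≫ (trRes hV hU' φ a b (h.trans ha) (h.trans hb)).φ =
      (trRes hV hU φ a b ha hb).φ ≫ resR (triv x C') h := by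
  rw [← (trRes hV hU φ a b ha hb).res_spec hU hU' h]
  congr 2
  exact (PHom.res_res _ hU hU' _ h _).symm

/-- The transition map. -/
def lTrans {U U' : Sub (Fine V)} (h : U' ≤ U) :
    Γ((triv x C').total, imU (triv x C') U.1.toOpens) ⟶ Γ((triv x C').total, imU (triv x C') U'.1.toOpens) :=
  resR (triv x C') (Scheme.AffineZariskiSite.toOpens_mono h) ≫
    (trRes hV U'.1.2 φ U.2.idx U'.2.idx ((Scheme.AffineZariskiSite.toOpens_mono h).trans U.2.le) U'.2.le).φ

theorem lTrans_comp (hc : IsCocy hV φ) {U U' U'' : Sub (Fine V)} (h : U' ≤ U) (h' : U'' ≤ U') :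
    lTrans hV φ h ≫ lTrans hV φ h' = lTrans hV φ (h'.trans h) := by
  unfold lTrans
  rw [Category.assoc, ← Category.assoc ((trRes hV U'.1.2 φ _ _ _ _).φ), ← res_trRes hV φ U'.1.2 U''.1.2,
    Category.assoc, ← Category.assoc]
  refine (congrArg (fun t => _ ≫ t) (congrArg PHom.φ (hc _ _ _ U''.1.toOpens U''.1.2 _ _ _))).trans ?_
  congr 1
  simp only [resR, ← Functor.map_comp]
  rfl

/-- The lifted rings. -/
def lFam (hc : IsCocy hV φ) : SFam x C' (Fine V) where
  R :=
    { obj := fun U => Γ((triv x C').total, imU (triv x C') U.unop.1.toOpens)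
      map := fun {U U'} h => lTrans hV φ h.unop.le
      map_id := fun U => by
        show lTrans hV φ _ = _
        unfold lTrans
        rw [trRes_self hV φ hc, Category.comp_id]
        exact (triv x C').total.presheaf.map_id _
      map_comp := fun {U U' U''} f g => (lTrans_comp hV φ hc f.unop.le g.unop.le).symm }
  str U := strU (triv x C') (imU (triv x C') U.unop.1.toOpens)
  str_nat h := by
    show _ ≫ lTrans hV φ h.unop.le = _
    unfold lTrans
    rw [← Category.assoc, strU_res, PHom.str, ofHom_id', Category.id_comp]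
  π U := piU (triv x C') U.unop.1.toOpens
  π_nat h := by
    show lTrans hV φ h.le ≫ _ = _
    unfold lTrans
    rw [Category.assoc, PHom.π, piU_res]
  flat U := (DefGlueLib.toFam (triv x C')).flat (op U.unop.1)
  π_surj U := (DefGlueLib.toFam (triv x C')).π_surj (op U.unop.1)
  π_str U := (DefGlueLib.toFam (triv x C')).π_str (op U.unop.1)
  ker_π U := (DefGlueLib.toFam (triv x C')).ker_π (op U.unop.1)

variable {φ} {α : ∀ a, PHom p (triv x C') ξ (V a)}

include hV in
theorem exists_lift_of_cocy (hcov : ⊤ ≤ iSup V) (hφ : IsTrans hV α φ) (hc : IsCocy hV φ) :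
    ∃ η : DefSch X x C', Nonempty (DefGlueLib.Mor p η ξ) := by
  haveI : Fact (IsSub (Fine V)) := ⟨isSub_fine V hcov⟩
  let F := lFam hV φ hc
  let c : ∀ U : Sub (Fine V), Γ((triv x C').total, imU (triv x C') U.1.toOpens) ⟶
      Γ(F.glue.total, imU F.glue U.1.toOpens) := fun U => toGlue F U
  haveI : ∀ U, IsIso (c U) := fun U => inferInstanceAs (IsIso (toGlue F U))
  let αU := fun U : Sub (Fine V) => (α U.2.idx).res (hV _) U.1.2 U.2.le
  obtain ⟨n, -⟩ := exists_mor_of_local (g := p) (Fact.out (p := IsSub (Fine V)))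
    (fun U => inv (c U) ≫ (αU U).φ) (fun {U U'} h => by
      rw [← cancel_epi (c U), ← Category.assoc]
      rw [show c U ≫ resR F.glue (Scheme.AffineZariskiSite.toOpens_mono h.le) = lTrans hV φ h.le ≫ c U' from
        (toGlue_nat F h).symm]
      rw [Category.assoc, IsIso.hom_inv_id_assoc, ← Category.assoc (c U), IsIso.hom_inv_id_assoc]
      unfold lTrans
      rw [Category.assoc]
      refine (congrArg (_ ≫ ·) (congrArg PHom.φ (trRes_comm hV U'.1.2 hφ U.2.idx U'.2.idx _ _))).trans ?_
      refine Eq.trans ?_ ((αU U).res_spec U.1.2 U'.1.2 (Scheme.AffineZariskiSite.toOpens_mono h.le))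
      rw [PHom.res_res])
    (fun U => by
      rw [← toGlue_str F U, Category.assoc, IsIso.hom_inv_id_assoc]
      exact (αU U).str)
    (fun U => by
      rw [Category.assoc, IsIso.inv_comp_eq]
      exact (αU U).π.trans (toGlue_π F U).symm)
  exact ⟨F.glue, ⟨n⟩⟩

theorem exists_lift [IsLocallyNoetherian X] [LocallyOfFiniteType x] [Subsingleton (Coh.HH X (derSh x (𝟙 X)) 2)]
    (hp : KilledKer p) (hs : Function.Surjective p) (ξ : DefSch X x C) :
    ∃ η : DefSch X x C', Nonempty (DefGlueLib.Mor p η ξ) := by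
  classical
  let V := fun U : X.affineOpens => (U : X.Opens)
  have hV : ∀ U, IsAffineOpen (V U) := fun U => U.2
  have hcov : (⊤ : X.Opens) ≤ iSup V := (iSup_affineOpens_eq_top X).ge
  choose α hα using fun a => exists_phom_of_charts p (hV a) (trivChart C' (V a))
    ((exists_chart ξ (Category.id_comp x) (hV a)).some)
  choose φ₀ hφ₀ using fun a b => PHom.exists_lift hs (affine_inf (y := x) (hV a) (hV b))
    ((α a).res (hV a) (affine_inf (y := x) (hV a) (hV b)) inf_le_left)
    ((α b).res (hV b) (affine_inf (y := x) (hV a) (hV b)) inf_le_right)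
  have htr : IsTrans hV α φ₀ := fun a b => PHom.ext (hφ₀ a b)
  haveI := finite_kerP p
  obtain ⟨φ, hφ, hc⟩ := exists_cocycle hp hs hV htr hcov (Module.Free.chooseBasis k (kerP p))
  exact exists_lift_of_cocy hV hcov hφ hc

theorem isPullback_mor {A B : Art k k} {g : A ⟶ B} {η : DefSch X x A} {ζ : DefSch X x B}
    (n : DefGlueLib.Mor g η ζ) : IsPullback n.ψ ζ.f η.f (specMap g) :=
  IsPullback.of_iso (IsPullback.of_hasPullback η.f (specMap g)) n.toBaseChange.iso.iso.symm (Iso.refl _) (Iso.refl _)
    (Iso.refl _) (by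
      rw [Iso.refl_hom, Category.comp_id, Iso.symm_hom, Iso.eq_inv_comp]
      exact pullback.lift_fst _ _ _) (by
      rw [Iso.refl_hom, Category.comp_id, Iso.symm_hom, Iso.eq_inv_comp]
      exact n.toBaseChange.iso.hom_f) (by simp) (by simp)

end Groth.Agent.DefExtLib
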