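import Groth.Agent.DefExtLib.Alg
import Groth.Agent.DefClassLib.Chart

/-! Local isomorphisms between two extensions of a deformation of a smooth scheme. -/

set_option autoImplicit false
set_option backward.isDefEq.respectTransparency false
set_option backward.isDefEq.respectTransparency.types false
set_option linter.style.haveILetI false

universe u

open CategoryTheory CategoryTheory.Limits AlgebraicGeometry TopologicalSpace Opposite ArtFun ArtFun.Art IsLocalRing
open scoped TensorProduct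

noncomputable section

namespace Groth.Agent.DefExtLib

open LocHilbGlueLib DefGlueLib DefSchLib RigidLib DefClassLib

variable {k : Type u} [Field k] {X : Scheme.{u}} {x : X ⟶ specPt k} {A B C' C : Art k k} {p : C' ⟶ C}

/-- A morphism of deformations on one open. -/
abbrev mR {g : A ⟶ B} {ξ : DefSch X x A} {η : DefSch X x B} (m : DefGlueLib.Mor g ξ η) (W : X.Opens) :
    Γ(ξ.total, imU ξ W) ⟶ Γ(η.total, imU η W) :=
  m.ψ.appLE (imU ξ W) (imU η W) (m.preimage_imU _).ge

theorem mR_res {g : A ⟶ B} {ξ : DefSch X x A} {η : DefSch X x B} (m : DefGlueLib.Mor g ξ η) {W W' : X.Opens}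
    (h : W' ≤ W) : resR ξ h ≫ mR m W' = mR m W ≫ resR η h := by
  simp [resR, Scheme.Hom.appLE_map, Scheme.Hom.map_appLE]

/-- An isomorphism on one open of two extensions, compatible with the deformation they extend. -/
structure Loc {ξ η : DefSch X x C'} {ζ : DefSch X x C} (m : DefGlueLib.Mor p ξ ζ) (n : DefGlueLib.Mor p η ζ)
    (W : X.Opens) : Type u where
  /-- the map on functions -/
  φ : Γ(ξ.total, imU ξ W) ⟶ Γ(η.total, imU η W)
  str : strU ξ (imU ξ W) ≫ φ = strU η (imU η W)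
  π : φ ≫ piU η W = piU ξ W
  comm : φ ≫ mR n W = mR m W

variable {ξ η : DefSch X x C'} {ζ : DefSch X x C} {m : DefGlueLib.Mor p ξ ζ} {n : DefGlueLib.Mor p η ζ}

theorem Loc.ext {W : X.Opens} {φ φ' : Loc m n W} (h : φ.φ = φ'.φ) : φ = φ' := by
  cases φ; cases φ'; subst h; rfl

/-- The morphism of lifts. -/
def Loc.hom {W : X.Opens} (hW : IsAffineOpen W) (φ : Loc m n W) :
    letI := algV x W
    DefSchLib.Hom (𝟙 C') (ringD ξ hW) (ringD η hW) :=
  letI := algV x W
  { φ := φ.φ.hom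
    φ_str := fun a => ConcreteCategory.congr_hom φ.str a
    π_φ := fun r => ConcreteCategory.congr_hom φ.π r }

theorem isSection_chart {W : X.Opens} (hW : IsAffineOpen W) (θ : Chart ξ x (𝟙 X) W) :
    letI := algV x W
    IsSection (ringD ξ hW) θ.θ.hom :=
  letI := algV x W
  { π := fun b => ConcreteCategory.congr_hom θ.π b
    alg := fun c => ConcreteCategory.congr_hom θ.alg c }

theorem hom_ext_chart {W : X.Opens} (hW : IsAffineOpen W) (θ : Chart ξ x (𝟙 X) W) {R : CommRingCat.{u}}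
    {f f' : Γ(ξ.total, imU ξ W) ⟶ R} (h₁ : strU ξ (imU ξ W) ≫ f = strU ξ (imU ξ W) ≫ f')
    (h₂ : θ.θ ≫ f = θ.θ ≫ f') : f = f' :=
  letI := algV x W
  CommRingCat.hom_ext (ext_of_section (isSection_chart hW θ) (fun a => ConcreteCategory.congr_hom h₁ a)
    fun b => ConcreteCategory.congr_hom h₂ b)

theorem mR_str {g : A ⟶ B} {ξ : DefSch X x A} {η : DefSch X x B} (m : DefGlueLib.Mor g ξ η) {W : X.Opens}
    (hW : IsAffineOpen W) :
    strU ξ (imU ξ W) ≫ mR m W = CommRingCat.ofHom g.toAlgHom.toRingHom ≫ strU η (imU η W) :=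
  m.toFam.str (op ⟨W, hW⟩)

theorem comm_str {W : X.Opens} (hW : IsAffineOpen W) {f : Γ(ξ.total, imU ξ W) ⟶ Γ(η.total, imU η W)}
    (hf : strU ξ (imU ξ W) ≫ f = strU η (imU η W)) :
    strU ξ (imU ξ W) ≫ f ≫ mR n W = strU ξ (imU ξ W) ≫ mR m W := by
  rw [← Category.assoc, hf, mR_str n hW, mR_str m hW]

theorem exists_loc_of_charts {W : X.Opens} (hW : IsAffineOpen W) (θ : Chart ξ x (𝟙 X) W) (θ' : Chart η x (𝟙 X) W)
    (h : θ.θ ≫ mR m W = θ'.θ ≫ mR n W) : ∃ φ : Loc m n W, θ.θ ≫ φ.φ = θ'.θ := by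
  letI := algV x W
  obtain ⟨F, hF⟩ := exists_hom_of_sections (isSection_chart hW θ) (isSection_chart hW θ') (𝟙 C')
  have e1 : θ.θ ≫ CommRingCat.ofHom F.φ = θ'.θ := CommRingCat.hom_ext (RingHom.ext hF)
  have e2 : strU ξ (imU ξ W) ≫ CommRingCat.ofHom F.φ = strU η (imU η W) :=
    CommRingCat.hom_ext (RingHom.ext F.φ_str)
  refine ⟨⟨CommRingCat.ofHom F.φ, e2, CommRingCat.hom_ext (RingHom.ext F.π_φ),
    hom_ext_chart hW θ (comm_str hW e2) ?_⟩, e1⟩
  rw [← Category.assoc, e1, h]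

theorem exists_loc [Smooth x] (hs : Function.Surjective p) {W : X.Opens} (hW : IsAffineOpen W) :
    Nonempty (Loc m n W) := by
  obtain ⟨θ⟩ := exists_chart ξ (Category.id_comp x) hW
  letI := algV x W
  let H := homD n hW
  letI : Algebra k Γ(η.total, imU η W) :=
    (CommRingCat.ofHom (algebraMap k C') ≫ strU η (imU η W)).hom.toAlgebra
  letI : Algebra k Γ(ζ.total, imU ζ W) :=
    (CommRingCat.ofHom (algebraMap k C) ≫ strU ζ (imU ζ W)).hom.toAlgebra
  let Φ : Γ(η.total, imU η W) →ₐ[k] Γ(ζ.total, imU ζ W) :=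
    { (mR n W).hom with
      commutes' := fun c => by
        show mR n W (strU η _ (algebraMap k C' c)) = strU ζ _ (algebraMap k C c)
        exact (ConcreteCategory.congr_hom (mR_str n hW) _).trans (congrArg (strU ζ _) (p.toAlgHom.commutes c)) }
  let G : Γ(X, W) →ₐ[k] Γ(ζ.total, imU ζ W) :=
    { (θ.θ ≫ mR m W).hom with
      commutes' := fun c => by
        show mR m W (θ.θ (algR x W c)) = strU ζ _ (algebraMap k C c)
        rw [← CommRingCat.comp_apply, θ.alg]
        exact (ConcreteCategory.congr_hom (mR_str m hW) _).trans (congrArg (strU ζ _) (p.toAlgHom.commutes c)) }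
  haveI : Algebra.Smooth k Γ(X, W) := by
    have h1 := x.smooth_appLE (isAffineOpen_top _) hW (le_top : W ≤ x ⁻¹ᵁ ⊤)
    exact RingHom.Smooth.respectsIso.2 (f := (x.appLE ⊤ W le_top).hom)
      (Scheme.ΓSpecIso (CommRingCat.of k)).symm.commRingCatIsoToRingEquiv h1
  have hsΦ : Function.Surjective Φ := H.surjective_φ hs
  have hnil : IsNilpotent (RingHom.ker (Φ : Γ(η.total, imU η W) →+* Γ(ζ.total, imU ζ W))) := by
    obtain ⟨N, hN⟩ := isNilpotent_piU η hW
    refine ⟨N, ?_⟩
    rw [Ideal.zero_eq_bot] at hN ⊢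
    refine le_bot_iff.mp (le_trans (Ideal.pow_right_mono (fun r hr => ?_) N) hN.le)
    show piU η W r = 0
    rw [← (show piU ζ W (mR n W r) = piU η W r from H.π_φ r), show mR n W r = 0 from hr, map_zero]
  let F := Algebra.FormallySmooth.liftOfSurjective G Φ hsΦ hnil
  have hF : ∀ r, mR n W (F r) = mR m W (θ.θ r) := fun r =>
    Algebra.FormallySmooth.liftOfSurjective_apply G Φ hsΦ _ r
  have hπ : ∀ r, piU η W (F r) = r := fun r => by
    refine ((H.π_φ (F r)).symm.trans (congrArg (piU ζ W) (hF r))).trans ?_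
    exact ((homD m hW).π_φ _).trans (ConcreteCategory.congr_hom θ.π r)
  let θ' : Chart η x (𝟙 X) W :=
    { θ := CommRingCat.ofHom F.toRingHom
      π := CommRingCat.hom_ext (RingHom.ext hπ)
      alg := CommRingCat.hom_ext (RingHom.ext F.commutes) }
  exact ⟨(exists_loc_of_charts (n := n) hW θ θ' (CommRingCat.hom_ext (RingHom.ext fun r => (hF r).symm))).choose⟩

/-- The chart moved by a local isomorphism. -/
def Loc.moveChart {W : X.Opens} (φ : Loc m n W) (θ : Chart ξ x (𝟙 X) W) : Chart η x (𝟙 X) W where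
  θ := θ.θ ≫ φ.φ
  π := by
    rw [Category.assoc]
    exact (congrArg (θ.θ ≫ ·) φ.π).trans θ.π
  alg := by
    rw [← Category.assoc, θ.alg, Category.assoc]
    exact congrArg (_ ≫ ·) φ.str

variable [Smooth x]

theorem exists_res_loc {V W : X.Opens} (hV : IsAffineOpen V) (hW : IsAffineOpen W) (h : W ≤ V) (φ : Loc m n V) :
    ∃ φ' : Loc m n W, resR ξ h ≫ φ'.φ = φ.φ ≫ resR η h := by
  obtain ⟨θ⟩ := exists_chart ξ (Category.id_comp x) hV
  let θ' := φ.moveChart θ
  have e0 : θ.push m = θ'.push n := by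
    have e : θ.θ ≫ mR m V = (θ.θ ≫ φ.φ) ≫ mR n V := by rw [Category.assoc, φ.comm]
    unfold Chart.push
    simp only [θ', Loc.moveChart]
    congr 1
  obtain ⟨φ', hφ'⟩ := exists_loc_of_charts (m := m) (n := n) hW (θ.res ξ hV hW h) (θ'.res η hV hW h)
    (congrArg Chart.θ (((Chart.push_res m hV hW h θ).symm.trans (congrArg (fun τ => Chart.res ζ hV hW h τ) e0)).trans
      (Chart.push_res n hV hW h θ')))
  refine ⟨φ', hom_ext_chart hV θ ?_ ?_⟩
  · rw [← Category.assoc, ← Category.assoc, strU_res, φ'.str, φ.str, strU_res]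
  · refine ((Category.assoc _ _ _).symm.trans (congrArg (· ≫ φ'.φ) (θ.res_spec ξ hV hW h))).trans ?_
    refine (Category.assoc _ _ _).trans ((congrArg _ hφ').trans ?_)
    exact ((θ'.res_spec η hV hW h).symm).trans (Category.assoc _ _ _)

/-- Restriction of a local isomorphism. -/
def Loc.res {V W : X.Opens} (hV : IsAffineOpen V) (hW : IsAffineOpen W) (h : W ≤ V) (φ : Loc m n V) : Loc m n W :=
  (exists_res_loc hV hW h φ).choose

theorem Loc.res_spec {V W : X.Opens} (hV : IsAffineOpen V) (hW : IsAffineOpen W) (h : W ≤ V) (φ : Loc m n V) :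
    resR ξ h ≫ (φ.res hV hW h).φ = φ.φ ≫ resR η h :=
  (exists_res_loc hV hW h φ).choose_spec

theorem Loc.res_unique {V W : X.Opens} (hV : IsAffineOpen V) (hW : IsAffineOpen W) (h : W ≤ V) (φ : Loc m n V)
    (φ' : Loc m n W) (e : resR ξ h ≫ φ'.φ = φ.φ ≫ resR η h) : φ.res hV hW h = φ' := by
  obtain ⟨θ⟩ := exists_chart ξ (Category.id_comp x) hV
  have key : ∀ ψ : Loc m n W, resR ξ h ≫ ψ.φ = φ.φ ≫ resR η h →
      (φ.moveChart θ).res η hV hW h = ψ.moveChart (θ.res ξ hV hW h) := fun ψ he => by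
    refine Chart.res_unique η hV hW h _ _ ?_
    show (θ.θ ≫ φ.φ) ≫ _ = _ ≫ (θ.res ξ hV hW h).θ ≫ ψ.φ
    rw [Category.assoc]
    exact ((congrArg (θ.θ ≫ ·) he.symm).trans (Category.assoc _ _ _).symm).trans
      ((congrArg (· ≫ ψ.φ) (θ.res_spec ξ hV hW h)).trans (Category.assoc _ _ _))
  refine Loc.ext (hom_ext_chart hW (θ.res ξ hV hW h) ?_ ?_)
  · rw [(φ.res hV hW h).str, φ'.str]
  · exact congrArg Chart.θ ((key _ (φ.res_spec hV hW h)).symm.trans (key _ e))

end Groth.Agent.DefExtLib
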