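import Groth.Agent.DefExtLib.PDiff
import Groth.Agent.CohBase.Functorial

/-! With vanishing second cohomology of the vector fields the local lifts of a deformation satisfy a cocycle condition. -/

set_option autoImplicit false
set_option backward.isDefEq.respectTransparency false
set_option backward.isDefEq.respectTransparency.types false
set_option linter.style.haveILetI false

universe u

open CategoryTheory CategoryTheory.Limits AlgebraicGeometry TopologicalSpace Opposite ArtFun ArtFun.Art IsLocalRing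
open scoped TensorProduct

noncomputable section

namespace Groth.Agent.DefExtLib

open LocHilbGlueLib DefGlueLib DefSchLib RigidLib DefClassLib CohBase H1ClassLib

variable {k : Type u} [Field k] {X : Scheme.{u}} {x : X ⟶ specPt k}

section Mul

variable {C' C : Art k k} {p : C' ⟶ C} {T : DefSch X x C'} {ζ : DefSch X x C} {W : X.Opens}

/-- An automorphism followed by a map to the smaller deformation. -/
def PHom.mulR (φ : PHom (𝟙 C') T T W) (α : PHom p T ζ W) : PHom p T ζ W where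
  φ := φ.φ ≫ α.φ
  str := by rw [← Category.assoc, φ.str, Category.assoc, α.str]; rfl
  π := by rw [Category.assoc, α.π, φ.π]

theorem PHom.mul_assoc (φ φ' φ'' : PHom (𝟙 C') T T W) : (φ.mul φ').mul φ'' = φ.mul (φ'.mul φ'') :=
  PHom.ext (Category.assoc _ _ _)

theorem PHom.mulR_mul (φ φ' : PHom (𝟙 C') T T W) (α : PHom p T ζ W) : (φ.mul φ').mulR α = φ.mulR (φ'.mulR α) :=
  PHom.ext (Category.assoc _ _ _)

theorem PHom.mulR_res [Smooth x] [IsSeparated x] {V : X.Opens} (hV : IsAffineOpen V) (hW : IsAffineOpen W)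
    (hle : W ≤ V) (φ : PHom (𝟙 C') T T V) (α : PHom p T ζ V) :
    (φ.mulR α).res hV hW hle = (φ.res hV hW hle).mulR (α.res hV hW hle) := by
  refine PHom.res_unique hV hW hle _ _ ?_
  show resR T hle ≫ (φ.res hV hW hle).φ ≫ (α.res hV hW hle).φ = (φ.φ ≫ α.φ) ≫ resR ζ hle
  rw [← Category.assoc, φ.res_spec hV hW hle, Category.assoc, α.res_spec hV hW hle, Category.assoc]

variable {hp : KilledKer p} {hW : IsAffineOpen W} [QuasiSeparated x]

theorem Cong.sect_congr {φ φ' ψ ψ' : PHom (𝟙 C') T T W} (e : φ = ψ) (e' : φ' = ψ') (h : Cong hp hW φ φ')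
    (h' : Cong hp hW ψ ψ') (l : kerP p →ₗ[k] k) : h.sect l = h'.sect l := by
  subst e e'
  rfl

theorem Cong.sect_self {φ : PHom (𝟙 C') T T W} (h : Cong hp hW φ φ) (l : kerP p →ₗ[k] k) : h.sect l = 0 :=
  add_eq_left.mp (h.sect_add h h l)

theorem Cong.sect_comp_cocycle {a b c e f g : PHom (𝟙 C') T T W} (ab_e : Cong hp hW (a.mul b) e)
    (ec_g : Cong hp hW (e.mul c) g) (bc_f : Cong hp hW (b.mul c) f) (af_g : Cong hp hW (a.mul f) g)
    (l : kerP p →ₗ[k] k) : ab_e.sect l + ec_g.sect l = bc_f.sect l + af_g.sect l := by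
  have h1 := ab_e.mul (Cong.refl c)
  have h3 := (Cong.refl a).mul bc_f
  have hP : Cong hp hW ((a.mul b).mul c) g := h1.trans ec_g
  have hP' : Cong hp hW (a.mul (b.mul c)) g := h3.trans af_g
  have e1 := Cong.sect_add h1 ec_g hP l
  have e2 := Cong.sect_add h3 af_g hP' l
  rw [Cong.sect_mul ab_e (Cong.refl c) h1, Cong.sect_self, add_zero] at e1
  rw [Cong.sect_mul (Cong.refl a) bc_f h3, Cong.sect_self, zero_add] at e2
  rw [e1, e2]

end Mul

variable [Smooth x] [IsSeparated x] {C' C : Art k k} {p : C' ⟶ C} (hp : KilledKer p) (hs : Function.Surjective p)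
  {ξ : DefSch X x C} {ι : Type u} {V : ι → X.Opens} (hV : ∀ a, IsAffineOpen (V a))

theorem isAffineOpen_inter (y : X ⟶ specPt k) [IsSeparated y] {V : ι → X.Opens} (hV : ∀ a, IsAffineOpen (V a)) :
    ∀ (j : ℕ) (t : Fin (j + 1) → ι), IsAffineOpen (inter V t) := by
  intro j
  induction j with
  | zero => intro t; rw [show t = fun _ => t 0 from funext fun q => by rw [show q = 0 from Fin.ext (by omega)], ← inter_const]; exact hV _
  | succ j ih =>
    intro t
    have e : inter V t = V (t 0) ⊓ inter V (t ∘ Fin.succ) :=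
      le_antisymm (le_inf (inter_le V t 0) (inter_comp_le V t Fin.succ)) (le_iInf fun q =>
        Fin.cases inf_le_left (fun q => inf_le_right.trans (inter_le V (t ∘ Fin.succ) q)) q)
    rw [e]
    exact affine_inf (y := y) (hV _) (ih _)

variable (α : ∀ a, PHom p (triv x C') ξ (V a))

/-- A family of local automorphisms compatible with the charts. -/
def IsTrans (φ : ∀ a b, PHom (𝟙 C') (triv x C') (triv x C') (V a ⊓ V b)) : Prop :=
  ∀ a b, (φ a b).mulR ((α b).res (hV b) (affine_inf (y := x) (hV a) (hV b)) inf_le_right) =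
    (α a).res (hV a) (affine_inf (y := x) (hV a) (hV b)) inf_le_left

variable {α} {φ : ∀ a b, PHom (𝟙 C') (triv x C') (triv x C') (V a ⊓ V b)}
  {W : X.Opens} (hW : IsAffineOpen W)

/-- The restriction of a transition. -/
def trRes (φ : ∀ a b, PHom (𝟙 C') (triv x C') (triv x C') (V a ⊓ V b)) (a b : ι) (ha : W ≤ V a) (hb : W ≤ V b) :
    PHom (𝟙 C') (triv x C') (triv x C') W :=
  (φ a b).res (affine_inf (y := x) (hV a) (hV b)) hW (le_inf ha hb)

theorem trRes_comm (hφ : IsTrans hV α φ) (a b : ι) (ha : W ≤ V a) (hb : W ≤ V b) :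
    (trRes hV hW φ a b ha hb).mulR ((α b).res (hV b) hW hb) = (α a).res (hV a) hW ha := by
  have h := congrArg (fun s => PHom.res (affine_inf (y := x) (hV a) (hV b)) hW (le_inf ha hb) s) (hφ a b)
  rw [PHom.mulR_res, PHom.res_res, PHom.res_res] at h
  exact h

include hp hs in
theorem cong_trans (hφ : IsTrans hV α φ) (a b c : ι) (ha : W ≤ V a) (hb : W ≤ V b) (hc : W ≤ V c) :
    Cong hp hW ((trRes hV hW φ a b ha hb).mul (trRes hV hW φ b c hb hc)) (trRes hV hW φ a c ha hc) := by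
  refine cong_of_comm hs ((α c).res (hV c) hW hc) ?_
  have e := PHom.mulR_mul (trRes hV hW φ a b ha hb) (trRes hV hW φ b c hb hc) ((α c).res (hV c) hW hc)
  rw [trRes_comm hV hW hφ b c hb hc, trRes_comm hV hW hφ a b ha hb, ← trRes_comm hV hW hφ a c ha hc] at e
  exact congrArg PHom.φ e

variable (hφ : IsTrans hV α φ) (l : kerP p →ₗ[k] k)

/-- The obstruction on a triple. -/
def obs (a b c : ι) (ha : W ≤ V a) (hb : W ≤ V b) (hc : W ≤ V c) : Γ(derSh x (𝟙 X), W) :=
  (cong_trans hp hs hV hW hφ a b c ha hb hc).sect l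

theorem obs_congr {a b c a' b' c' : ι} (ea : a = a') (eb : b = b') (ec : c = c') (ha : W ≤ V a) (hb : W ≤ V b)
    (hc : W ≤ V c) : obs hp hs hV hW hφ l a b c ha hb hc =
      obs hp hs hV hW hφ l a' b' c' (ea ▸ ha) (eb ▸ hb) (ec ▸ hc) := by
  subst ea eb ec
  rfl

theorem rD_obs {U : X.Opens} (hU : IsAffineOpen U) (h : U ≤ W) (a b c : ι) (ha : W ≤ V a) (hb : W ≤ V b)
    (hc : W ≤ V c) : rD x (𝟙 X) h (obs hp hs hV hW hφ l a b c ha hb hc) =
      obs hp hs hV hU hφ l a b c (h.trans ha) (h.trans hb) (h.trans hc) := by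
  have e : ∀ a b (ha : W ≤ V a) (hb : W ≤ V b), (trRes hV hW φ a b ha hb).res hW hU h =
      trRes hV hU φ a b (h.trans ha) (h.trans hb) := fun a b ha hb => PHom.res_res _ hW hU _ h _
  have e1 : ((trRes hV hW φ a b ha hb).mul (trRes hV hW φ b c hb hc)).res hW hU h =
      (trRes hV hU φ a b (h.trans ha) (h.trans hb)).mul (trRes hV hU φ b c (h.trans hb) (h.trans hc)) := by
    rw [PHom.mul_res, e, e]
  have h' : Cong hp hU (((trRes hV hW φ a b ha hb).mul (trRes hV hW φ b c hb hc)).res hW hU h)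
      ((trRes hV hW φ a c ha hc).res hW hU h) := by
    rw [e1, e]
    exact cong_trans hp hs hV hU hφ a b c _ _ _
  exact ((cong_trans hp hs hV hW hφ a b c ha hb hc).sect_res h h' l).trans
    (Cong.sect_congr e1 (e a c ha hc) h' _ l)

theorem obs_cocycle (a b c e : ι) (ha : W ≤ V a) (hb : W ≤ V b) (hc : W ≤ V c) (he : W ≤ V e) :
    obs hp hs hV hW hφ l a b c ha hb hc + obs hp hs hV hW hφ l a c e ha hc he =
      obs hp hs hV hW hφ l b c e hb hc he + obs hp hs hV hW hφ l a b e ha hb he :=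
  Cong.sect_comp_cocycle (cong_trans hp hs hV hW hφ a b c ha hb hc) (cong_trans hp hs hV hW hφ a c e ha hc he)
    (cong_trans hp hs hV hW hφ b c e hb hc he) (cong_trans hp hs hV hW hφ a b e ha hb he) l

/-- The obstruction cochain. -/
def obsCo : CC V (derAb x (𝟙 X)).obj 2 := fun t =>
  obs hp hs hV (isAffineOpen_inter x hV 2 t) hφ l (t 0) (t 1) (t 2) (inter_le V t 0) (inter_le V t 1) (inter_le V t 2)

theorem res_obsCo (t : Fin 3 → ι) {U : X.Opens} (hU : IsAffineOpen U) (h : U ≤ inter V t) {a b c : ι}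
    (ea : t 0 = a) (eb : t 1 = b) (ec : t 2 = c) :
    res (derAb x (𝟙 X)).obj h (obsCo hp hs hV hφ l t) = obs hp hs hV hU hφ l a b c
      (ea ▸ h.trans (inter_le V t 0)) (eb ▸ h.trans (inter_le V t 1)) (ec ▸ h.trans (inter_le V t 2)) := by
  subst ea eb ec
  exact rD_obs hp hs hV (isAffineOpen_inter x hV 2 t) hφ l hU h _ _ _ _ _ _

theorem obsCo_mem : obsCo hp hs hV hφ l ∈ Zc V (derAb x (𝟙 X)).obj 2 := by
  show cdiff V (derAb x (𝟙 X)).obj 2 _ = 0
  funext i
  rw [cdiff_apply, Fin.sum_univ_four]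
  rw [res_obsCo hp hs hV hφ l (i ∘ (0 : Fin 4).succAbove) (isAffineOpen_inter x hV 3 i) _
      (rfl : _ = i 1) (rfl : _ = i 2) (rfl : _ = i 3),
    res_obsCo hp hs hV hφ l (i ∘ (1 : Fin 4).succAbove) (isAffineOpen_inter x hV 3 i) _
      (rfl : _ = i 0) (rfl : _ = i 2) (rfl : _ = i 3),
    res_obsCo hp hs hV hφ l (i ∘ (2 : Fin 4).succAbove) (isAffineOpen_inter x hV 3 i) _
      (rfl : _ = i 0) (rfl : _ = i 1) (rfl : _ = i 3),
    res_obsCo hp hs hV hφ l (i ∘ (3 : Fin 4).succAbove) (isAffineOpen_inter x hV 3 i) _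
      (rfl : _ = i 0) (rfl : _ = i 1) (rfl : _ = i 2)]
  have h := obs_cocycle hp hs hV (isAffineOpen_inter x hV 3 i) hφ l (i 0) (i 1) (i 2) (i 3)
    (inter_le V i 0) (inter_le V i 1) (inter_le V i 2) (inter_le V i 3)
  simp only [Fin.val_zero, Fin.val_one, Fin.val_two, show ((3 : Fin 4) : ℕ) = 3 from rfl, pow_zero, pow_one,
    one_smul, neg_smul, neg_one_sq, Pi.zero_apply, show ((-1 : ℤ)) ^ 3 = -1 from rfl]
  have hz : ∀ A B C E : Γ(derSh x (𝟙 X), inter V i), E + B = A + C → A + -B + C + -E = 0 := fun A B C E he => by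
    rw [show A + -B + C + -E = (A + C) - (E + B) by abel, he, sub_self]
  exact hz _ _ _ _ h

variable (hcov : ⊤ ≤ iSup V) [IsLocallyNoetherian X] [LocallyOfFiniteType x]
  [Subsingleton (Coh.HH X (derSh x (𝟙 X)) 2)]

include hcov in
theorem exists_obs_eq_cdiff : ∃ b : CC V (derAb x (𝟙 X)).obj 1,
    cdiff V (derAb x (𝟙 X)).obj 1 b = obsCo hp hs hV hφ l := by
  haveI : Subsingleton (HU (⊤ : X.Opens) (derAb x (𝟙 X)) 2) := (HHEquiv (derSh x (𝟙 X)) 2).symm.subsingleton
  exact (cmp_eq_zero_iff V hcov (acyclic_derAb hV) ⟨_, obsCo_mem hp hs hV hφ l⟩).1 (Subsingleton.elim _ _)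

omit [IsLocallyNoetherian X] [LocallyOfFiniteType x] [Subsingleton (Coh.HH X (derSh x (𝟙 X)) 2)] in
include hp hs hφ in
theorem exists_cocycle_of_bc {ν : Type u} [Fintype ν] [DecidableEq ν] (bJ : Module.Basis ν k (kerP p))
    (h0 : ∀ j, ∃ b, cdiff V (derAb x (𝟙 X)).obj 1 b = obsCo hp hs hV hφ (bJ.coord j)) :
    ∃ φ' : ∀ a b, PHom (𝟙 C') (triv x C') (triv x C') (V a ⊓ V b), IsTrans hV α φ' ∧
      ∀ (a b c : ι) (U : X.Opens) (hU : IsAffineOpen U) (ha : U ≤ V a) (hb : U ≤ V b) (hc : U ≤ V c),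
        (trRes hV hU φ' a b ha hb).mul (trRes hV hU φ' b c hb hc) = trRes hV hU φ' a c ha hc := by
  choose β hβ using h0
  choose φ' hcg hcomm hsect using fun a b => Cong.exists_shift (hp := hp) (hW := affine_inf (y := x) (hV a) (hV b))
    hs ((α b).res (hV b) (affine_inf (y := x) (hV a) (hV b)) inf_le_right) (φ a b) bJ
    fun j => res (derAb x (𝟙 X)).obj (H1ClassLib.pair_le_inter V a b) (β j ![a, b])
  have hφ' : IsTrans hV α φ' := fun a b => (PHom.ext (hcomm a b)).trans (hφ a b)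
  refine ⟨φ', hφ', fun a b c U hU ha hb hc =>
    Cong.eq_of_sect bJ (cong_trans hp hs hV hU hφ' a b c ha hb hc) fun j => ?_⟩
  have hs' : ∀ a b (ha : U ≤ V a) (hb : U ≤ V b), ∃ h : Cong hp hU (trRes hV hU φ a b ha hb) (trRes hV hU φ' a b ha hb),
      h.sect (bJ.coord j) =
        res (derAb x (𝟙 X)).obj ((le_inf ha hb).trans (H1ClassLib.pair_le_inter V a b)) (β j ![a, b]) := by
    intro a b ha hb
    have h : Cong hp hU (trRes hV hU φ a b ha hb) (trRes hV hU φ' a b ha hb) :=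
      cong_of_comm hs ((α b).res (hV b) hU hb) (congrArg PHom.φ ((trRes_comm hV hU hφ a b ha hb).trans
        (trRes_comm hV hU hφ' a b ha hb).symm))
    refine ⟨h, ?_⟩
    rw [← (hcg a b).sect_res (le_inf ha hb) h, hsect, ← res_derAb, CohBase.res_res]
  obtain ⟨hab, eab⟩ := hs' a b ha hb
  obtain ⟨hbc, ebc⟩ := hs' b c hb hc
  obtain ⟨hac, eac⟩ := hs' a c ha hc
  have h1 := hab.mul hbc
  have h2 := cong_trans hp hs hV hU hφ a b c ha hb hc
  have h3 := cong_trans hp hs hV hU hφ' a b c ha hb hc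
  have c1 := Cong.sect_add h1 h3 (h2.trans hac) (bJ.coord j)
  have c2 := Cong.sect_add h2 hac (h2.trans hac) (bJ.coord j)
  rw [← c2, Cong.sect_mul hab hbc h1, eab, ebc, eac] at c1
  have hU' : U ≤ inter V ![a, b, c] := le_iInf fun q => by
    fin_cases q
    · exact ha
    · exact hb
    · exact hc
  have hd := congrArg (res (derAb x (𝟙 X)).obj hU') (congrFun (hβ j) ![a, b, c])
  rw [res_obsCo hp hs hV hφ (bJ.coord j) ![a, b, c] hU hU' (rfl : _ = a) (rfl : _ = b) (rfl : _ = c),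
    cdiff_apply, Fin.sum_univ_three] at hd
  simp only [map_add, map_zsmul, CohBase.res_res, Fin.val_zero, Fin.val_one, Fin.val_two, pow_zero, pow_one,
    one_smul, neg_smul, neg_one_sq, map_neg] at hd
  rw [cc_congr (derAb x (𝟙 X)).obj (β j) (show (![a, b, c] ∘ (0 : Fin 3).succAbove : Fin 2 → ι) = ![b, c] from
      funext fun q => by fin_cases q <;> rfl) _ ((le_inf hb hc).trans (H1ClassLib.pair_le_inter V b c)),
    cc_congr (derAb x (𝟙 X)).obj (β j) (show (![a, b, c] ∘ (1 : Fin 3).succAbove : Fin 2 → ι) = ![a, c] from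
      funext fun q => by fin_cases q <;> rfl) _ ((le_inf ha hc).trans (H1ClassLib.pair_le_inter V a c)),
    cc_congr (derAb x (𝟙 X)).obj (β j) (show (![a, b, c] ∘ (2 : Fin 3).succAbove : Fin 2 → ι) = ![a, b] from
      funext fun q => by fin_cases q <;> rfl) _ ((le_inf ha hb).trans (H1ClassLib.pair_le_inter V a b))] at hd
  have e2 : h2.sect (bJ.coord j) = obs hp hs hV hU hφ (bJ.coord j) a b c ha hb hc := rfl
  rw [e2, ← hd] at c1
  have hz : ∀ B E A S : Γ(derSh x (𝟙 X), U), A + B + S = B + -E + A + E → S = 0 := fun B E A S he => by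
    rw [show B + -E + A + E = A + B by abel, add_eq_left] at he
    exact he
  exact hz _ _ _ _ c1

include hp hs hcov hφ in
theorem exists_cocycle {ν : Type u} [Fintype ν] [DecidableEq ν] (bJ : Module.Basis ν k (kerP p)) :
    ∃ φ' : ∀ a b, PHom (𝟙 C') (triv x C') (triv x C') (V a ⊓ V b), IsTrans hV α φ' ∧
      ∀ (a b c : ι) (U : X.Opens) (hU : IsAffineOpen U) (ha : U ≤ V a) (hb : U ≤ V b) (hc : U ≤ V c),
        (trRes hV hU φ' a b ha hb).mul (trRes hV hU φ' b c hb hc) = trRes hV hU φ' a c ha hc :=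
  exists_cocycle_of_bc hp hs hV hφ bJ fun j => exists_obs_eq_cdiff hp hs hV hφ (bJ.coord j) hcov

end Groth.Agent.DefExtLib
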