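import Groth.Agent.DefExtLib.Lift

/-! The obstruction class to lifting a deformation of a smooth separated scheme. -/

set_option autoImplicit false
set_option backward.isDefEq.respectTransparency false
set_option backward.isDefEq.respectTransparency.types false
set_option linter.style.haveILetI false

universe u

open CategoryTheory CategoryTheory.Limits AlgebraicGeometry TopologicalSpace Opposite ArtFun ArtFun.Art IsLocalRing
open scoped TensorProduct

noncomputable section

namespace Groth.Agent.DefExtLib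

open LocHilbGlueLib DefGlueLib DefSchLib RigidLib DefClassLib CohBase H1ClassLib

variable {k : Type u} [Field k] {X : Scheme.{u}} {x : X ⟶ specPt k} [Smooth x] [IsSeparated x]

section Linear

variable {C' C : Art k k} {p : C' ⟶ C} {hp : KilledKer p} {T : DefSch X x C'} {W : X.Opens}
  {hW : IsAffineOpen W} {φ φ' : PHom (𝟙 C') T T W} (h : Cong hp hW φ φ')

omit [Smooth x] in
theorem Cong.sect_addl (l l' : kerP p →ₗ[k] k) : h.sect (l + l') = h.sect l + h.sect l' := by
  refine val_ext x (𝟙 X) hW fun r => ?_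
  letI := algV x W
  rw [val_add]
  exact ((h.val_sect _ r).trans (coef_add l l' _)).trans (congrArg₂ (· + ·) (h.val_sect l r) (h.val_sect l' r)).symm

omit [Smooth x] in
theorem Cong.sect_smull (c : k) (l : kerP p →ₗ[k] k) : h.sect (c • l) = algR x W c • h.sect l := by
  refine val_ext x (𝟙 X) hW fun r => ?_
  letI := algV x W
  rw [val_smul]
  exact ((h.val_sect _ r).trans (coef_smul_left c l _)).trans
    ((Algebra.smul_def c _).trans (congrArg (algR x W c * ·) (h.val_sect l r).symm))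

end Linear

section Cocy

variable {C' C : Art k k} {p : C' ⟶ C} (hp : KilledKer p) (hs : Function.Surjective p)
  {ξ : DefSch X x C} {ι : Type u} {V : ι → X.Opens} (hV : ∀ a, IsAffineOpen (V a))
  {α : ∀ a, PHom p (triv x C') ξ (V a)} {φ φ' : ∀ a b, PHom (𝟙 C') (triv x C') (triv x C') (V a ⊓ V b)}
  (hφ : IsTrans hV α φ) (hφ' : IsTrans hV α φ') (l l' : kerP p →ₗ[k] k)

include hφ hφ' in
theorem cong_choice {W : X.Opens} (hW : IsAffineOpen W) (a b : ι) (ha : W ≤ V a) (hb : W ≤ V b)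
    (hs : Function.Surjective p) :
    Cong hp hW (trRes hV hW φ a b ha hb) (trRes hV hW φ' a b ha hb) :=
  cong_of_comm hs ((α b).res (hV b) hW hb) (congrArg PHom.φ ((trRes_comm hV hW hφ a b ha hb).trans
    (trRes_comm hV hW hφ' a b ha hb).symm))

/-- The change of the choice of transitions. -/
def choiceCo : CC V (derAb x (𝟙 X)).obj 1 := fun t =>
  (cong_choice hp hV hφ hφ' (isAffineOpen_inter x hV 1 t) (t 0) (t 1) (inter_le V t 0) (inter_le V t 1) hs).sect l

theorem res_choiceCo (t : Fin 2 → ι) {U : X.Opens} (hU : IsAffineOpen U) (h : U ≤ inter V t) {a b : ι}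
    (ea : t 0 = a) (eb : t 1 = b) :
    res (derAb x (𝟙 X)).obj h (choiceCo hp hs hV hφ hφ' l t) =
      (cong_choice hp hV hφ hφ' hU a b (ea ▸ h.trans (inter_le V t 0)) (eb ▸ h.trans (inter_le V t 1)) hs).sect l := by
  subst ea eb
  let hc := cong_choice hp hV hφ hφ' (isAffineOpen_inter x hV 1 t) (t 0) (t 1) (inter_le V t 0) (inter_le V t 1) hs
  have e : ∀ (ψ : ∀ a b, PHom (𝟙 C') (triv x C') (triv x C') (V a ⊓ V b)),
      (trRes hV (isAffineOpen_inter x hV 1 t) ψ (t 0) (t 1) (inter_le V t 0) (inter_le V t 1)).res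
        (isAffineOpen_inter x hV 1 t) hU h =
      trRes hV hU ψ (t 0) (t 1) (h.trans (inter_le V t 0)) (h.trans (inter_le V t 1)) :=
    fun ψ => PHom.res_res _ _ hU _ h _
  have h' : Cong hp hU
      ((trRes hV (isAffineOpen_inter x hV 1 t) φ (t 0) (t 1) (inter_le V t 0) (inter_le V t 1)).res
        (isAffineOpen_inter x hV 1 t) hU h)
      ((trRes hV (isAffineOpen_inter x hV 1 t) φ' (t 0) (t 1) (inter_le V t 0) (inter_le V t 1)).res
        (isAffineOpen_inter x hV 1 t) hU h) := by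
    rw [e, e]
    exact cong_choice hp hV hφ hφ' hU _ _ _ _ hs
  exact (hc.sect_res h h' l).trans (Cong.sect_congr (e φ) (e φ') h' _ l)

theorem obsCo_choice :
    obsCo hp hs hV hφ l = obsCo hp hs hV hφ' l + cdiff V (derAb x (𝟙 X)).obj 1 (choiceCo hp hs hV hφ hφ' l) := by
  funext i
  rw [Pi.add_apply, cdiff_apply, Fin.sum_univ_three,
    res_choiceCo hp hs hV hφ hφ' l (i ∘ (0 : Fin 3).succAbove) (isAffineOpen_inter x hV 2 i) _
      (rfl : _ = i 1) (rfl : _ = i 2),
    res_choiceCo hp hs hV hφ hφ' l (i ∘ (1 : Fin 3).succAbove) (isAffineOpen_inter x hV 2 i) _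
      (rfl : _ = i 0) (rfl : _ = i 2),
    res_choiceCo hp hs hV hφ hφ' l (i ∘ (2 : Fin 3).succAbove) (isAffineOpen_inter x hV 2 i) _
      (rfl : _ = i 0) (rfl : _ = i 1)]
  have hab := cong_choice hp hV hφ hφ' (isAffineOpen_inter x hV 2 i) (i 0) (i 1) (inter_le V i 0) (inter_le V i 1) hs
  have hbc := cong_choice hp hV hφ hφ' (isAffineOpen_inter x hV 2 i) (i 1) (i 2) (inter_le V i 1) (inter_le V i 2) hs
  have hac := cong_choice hp hV hφ hφ' (isAffineOpen_inter x hV 2 i) (i 0) (i 2) (inter_le V i 0) (inter_le V i 2) hs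
  have h2 := cong_trans hp hs hV (isAffineOpen_inter x hV 2 i) hφ (i 0) (i 1) (i 2)
    (inter_le V i 0) (inter_le V i 1) (inter_le V i 2)
  have h3 := cong_trans hp hs hV (isAffineOpen_inter x hV 2 i) hφ' (i 0) (i 1) (i 2)
    (inter_le V i 0) (inter_le V i 1) (inter_le V i 2)
  have c1 := Cong.sect_add (hab.mul hbc) h3 (h2.trans hac) l
  have c2 := Cong.sect_add h2 hac (h2.trans hac) l
  rw [← c2, Cong.sect_mul hab hbc] at c1
  simp only [Fin.val_zero, Fin.val_one, Fin.val_two, pow_zero, pow_one, one_smul, neg_smul, neg_one_sq]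
  have hz : ∀ A B E S S' : Γ(derSh x (𝟙 X), inter V i), A + B + S' = S + E → S = S' + (B + -E + A) :=
    fun A B E S S' he => by rw [show S' + (B + -E + A) = A + B + S' - E by abel, he, add_sub_cancel_right]
  exact hz _ _ _ _ _ c1

theorem obsCo_add : obsCo hp hs hV hφ (l + l') = obsCo hp hs hV hφ l + obsCo hp hs hV hφ l' :=
  funext fun _ => Cong.sect_addl _ l l'

variable (hcov : ⊤ ≤ iSup V) [IsLocallyNoetherian X] [LocallyOfFiniteType x]

/-- The obstruction class at a functional. -/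
def obsH : Coh.HH X (derSh x (𝟙 X)) 2 :=
  (HHEquiv (derSh x (𝟙 X)) 2).symm (cmp V hcov (acyclic_derAb hV) 2 ⟨_, obsCo_mem hp hs hV hφ l⟩)

theorem obsH_eq_zero_iff :
    obsH hp hs hV hφ l hcov = 0 ↔ ∃ b, cdiff V (derAb x (𝟙 X)).obj 1 b = obsCo hp hs hV hφ l := by
  show (HHEquiv (derSh x (𝟙 X)) 2).symm _ = 0 ↔ _
  rw [map_eq_zero_iff _ (HHEquiv (derSh x (𝟙 X)) 2).symm.injective]
  exact cmp_eq_zero_iff V hcov (acyclic_derAb hV) _

theorem obsH_add : obsH hp hs hV hφ (l + l') hcov = obsH hp hs hV hφ l hcov + obsH hp hs hV hφ l' hcov := by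
  rw [obsH, obsH, obsH, ← map_add, ← map_add]
  congr 2
  exact Subtype.ext (obsCo_add hp hs hV hφ l l')

include hφ' in
theorem obsH_choice : obsH hp hs hV hφ l hcov = obsH hp hs hV hφ' l hcov := by
  rw [← sub_eq_zero, obsH, obsH, ← map_sub, ← map_sub,
    map_eq_zero_iff _ (HHEquiv (derSh x (𝟙 X)) 2).symm.injective]
  refine (cmp_eq_zero_iff V hcov (acyclic_derAb hV) _).2 ⟨choiceCo hp hs hV hφ hφ' l, ?_⟩
  show cdiff V _ 1 _ = obsCo hp hs hV hφ l - obsCo hp hs hV hφ' l
  rw [obsCo_choice hp hs hV hφ hφ' l, add_sub_cancel_left]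

theorem obsH_smul (c : k) : obsH hp hs hV hφ (c • l) hcov = Coh.toGlobal x c • obsH hp hs hV hφ l hcov := by
  apply (HHEquiv (derSh x (𝟙 X)) 2).injective
  show HHEquiv (derSh x (𝟙 X)) 2 ((HHEquiv (derSh x (𝟙 X)) 2).symm _) = HEquiv (derAb x (𝟙 X)) 2
    (Sheaf.H.map (Coh.smulAb (derSh x (𝟙 X)) (Coh.toGlobal x c)) 2 (obsH hp hs hV hφ l hcov))
  rw [AddEquiv.apply_symm_apply, HEquiv_map]
  refine (cmp_natural V hcov (acyclic_derAb hV) (acyclic_derAb hV) (Coh.smulAb (derSh x (𝟙 X)) (Coh.toGlobal x c))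
    ⟨_, obsCo_mem hp hs hV hφ l⟩ _ (funext fun t => ?_)).trans
    (congrArg _ ((HHEquiv (derSh x (𝟙 X)) 2).apply_symm_apply _).symm)
  show obs hp hs hV _ hφ (c • l) _ _ _ _ _ _ =
    (Coh.smulAb (derSh x (𝟙 X)) (Coh.toGlobal x c)).hom.app _ (obsCo hp hs hV hφ l t)
  refine (Cong.sect_smull _ c l).trans ?_
  refine Eq.trans ?_ (Coh.smulAb_app _ _ _ _).symm
  refine congrArg (· • _) ?_
  exact congrArg (fun g : CommRingCat.of k ⟶ Γ(X, inter V t) => g c)
    (show algR x _ = ((Scheme.ΓSpecIso (CommRingCat.of k)).inv ≫ x.appTop) ≫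
        X.presheaf.map (homOfLE (le_top : inter V t ≤ ⊤)).op by
      simp [algR, Scheme.Hom.appLE, Scheme.Hom.appTop])

theorem exists_lift_iff {ν : Type u} [Fintype ν] [DecidableEq ν] (bJ : Module.Basis ν k (kerP p))
    (h0 : ∀ j, obsH hp hs hV hφ (bJ.coord j) hcov = 0) : ∃ η : DefSch X x C', Nonempty (DefGlueLib.Mor p η ξ) := by
  obtain ⟨φ', h1, h2⟩ := exists_cocycle_of_bc hp hs hV hφ bJ fun j => (obsH_eq_zero_iff hp hs hV hφ _ hcov).1 (h0 j)
  exact exists_lift_of_cocy hV hcov h1 h2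

theorem obsH_eq_zero_of_lift {η : DefSch X x C'} (n : DefGlueLib.Mor p η ξ) :
    obsH hp hs hV hφ l hcov = 0 := by
  let β : ∀ a, PHom p η ξ (V a) := fun a =>
    ⟨mR n (V a), mR_str n (hV a), by simp [piU, Scheme.Hom.appLE_comp_appLE, n.i]⟩
  choose ψ hψ using fun a => PHom.exists_lift hs (hV a) (α a) (β a)
  have hP := fun a b => affine_inf (y := x) (hV a) (hV b)
  choose χ hχ using fun a b => PHom.exists_lift (p := 𝟙 C') Function.surjective_id (hP a b)
    ((ψ a).res (hV a) (hP a b) inf_le_left) ((ψ b).res (hV b) (hP a b) inf_le_right)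
  have hres : ∀ (a : ι) (W : X.Opens) (hW : IsAffineOpen W) (ha : W ≤ V a),
      ((ψ a).res (hV a) hW ha).φ ≫ mR n W = ((α a).res (hV a) hW ha).φ := fun a W hW ha => by
    refine (congrArg PHom.φ (PHom.res_unique (hV a) hW ha (α a)
      ⟨((ψ a).res (hV a) hW ha).φ ≫ mR n W, ?_, ?_⟩ ?_)).symm
    · rw [← Category.assoc, ((ψ a).res (hV a) hW ha).str, Category.assoc, mR_str n hW]
      rfl
    · rw [Category.assoc, show mR n W ≫ piU ξ W = piU η W by simp [piU, Scheme.Hom.appLE_comp_appLE, n.i]]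
      exact ((ψ a).res (hV a) hW ha).π
    · show resR _ ha ≫ _ ≫ _ = _
      rw [← Category.assoc, (ψ a).res_spec (hV a) hW ha, Category.assoc, mR_res, ← Category.assoc, hψ a]
  have htr : IsTrans hV α χ := fun a b => PHom.ext (by
    show (χ a b).φ ≫ _ = _
    rw [← hres b _ (hP a b) inf_le_right, ← hres a _ (hP a b) inf_le_left, ← Category.assoc, hχ a b])
  rw [obsH_choice hp hs hV hφ htr l hcov]
  have hbij : ∀ {W : X.Opens} (hW : IsAffineOpen W) (γ : PHom (𝟙 C') (triv x C') η W), Mono γ.φ := fun {W} hW γ => by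
    letI := algV x W
    refine ConcreteCategory.mono_of_injective _ ?_
    have h1 := (γ.hom hW).toIso.e.bijective.1
    exact h1
  have hχW : ∀ {W : X.Opens} (hW : IsAffineOpen W) (a b : ι) (ha : W ≤ V a) (hb : W ≤ V b),
      (trRes hV hW χ a b ha hb).φ ≫ ((ψ b).res (hV b) hW hb).φ = ((ψ a).res (hV a) hW ha).φ := fun {W} hW a b ha hb => by
    have h1 : PHom.mulR (χ a b) ((ψ b).res (hV b) (hP a b) inf_le_right) =
        (ψ a).res (hV a) (hP a b) inf_le_left := PHom.ext (hχ a b)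
    have h := congrArg (fun s => PHom.res (hP a b) hW (le_inf ha hb) s) h1
    rw [PHom.mulR_res, PHom.res_res, PHom.res_res] at h
    exact congrArg PHom.φ h
  have hz : obsCo hp hs hV htr l = 0 := funext fun t => by
    have hW := isAffineOpen_inter x hV 2 t
    have e : (trRes hV hW χ (t 0) (t 1) (inter_le V t 0) (inter_le V t 1)).mul
        (trRes hV hW χ (t 1) (t 2) (inter_le V t 1) (inter_le V t 2)) =
        trRes hV hW χ (t 0) (t 2) (inter_le V t 0) (inter_le V t 2) := by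
      haveI := hbij hW ((ψ (t 2)).res (hV (t 2)) hW (inter_le V t 2))
      refine PHom.ext ((cancel_mono ((ψ (t 2)).res (hV (t 2)) hW (inter_le V t 2)).φ).1 ?_)
      show ((trRes hV hW χ _ _ _ _).φ ≫ (trRes hV hW χ _ _ _ _).φ) ≫ _ = _
      rw [Category.assoc, hχW hW, hχW hW, hχW hW]
    exact (Cong.sect_congr e rfl (cong_trans hp hs hV hW htr _ _ _ _ _ _) (Cong.refl _) l).trans (Cong.sect_self _ l)
  refine (obsH_eq_zero_iff hp hs hV htr l hcov).2 ⟨0, ?_⟩
  rw [map_zero, hz]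

end Cocy

end Groth.Agent.DefExtLib
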