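import Groth.Agent.DefExtLib.ObsClass

/-! The obstruction classes are natural in the extension. -/

set_option autoImplicit false
set_option backward.isDefEq.respectTransparency false
set_option backward.isDefEq.respectTransparency.types false
set_option linter.style.haveILetI false

universe u

open CategoryTheory CategoryTheory.Limits AlgebraicGeometry TopologicalSpace Opposite ArtFun ArtFun.Art IsLocalRing
open scoped TensorProduct

noncomputable section

namespace Groth.Agent.DefExtLib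

open LocHilbGlueLib DefGlueLib DefSchLib RigidLib DefClassLib CohBase H1ClassLib

variable {k : Type u} [Field k] {X : Scheme.{u}} {x : X ⟶ specPt k} [Smooth x] [IsSeparated x]

section Push

variable {A B : Art k k} (g : A ⟶ B)

/-- The map of trivial deformations. -/
def push {W : X.Opens} (hW : IsAffineOpen W) : PHom g (triv x A) (triv x B) W :=
  (exists_phom_of_charts g hW (trivChart A W) (trivChart B W)).choose

theorem push_spec {W : X.Opens} (hW : IsAffineOpen W) :
    (trivChart (x := x) A W).θ ≫ (push g hW).φ = (trivChart B W).θ :=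
  (exists_phom_of_charts g hW (trivChart A W) (trivChart B W)).choose_spec

theorem trivChart_resR (A : Art k k) {U W : X.Opens} (h : W ≤ U) :
    (trivChart (x := x) A U).θ ≫ resR (triv x A) h = X.presheaf.map (homOfLE h).op ≫ (trivChart A W).θ := by
  simp [trivChart, resR, Scheme.Hom.appLE_map, Scheme.Hom.map_appLE]
  rfl

theorem push_res {U W : X.Opens} (hU : IsAffineOpen U) (hW : IsAffineOpen W) (h : W ≤ U) :
    (push (x := x) g hU).res hU hW h = push g hW := by
  refine PHom.res_unique hU hW h _ _ (hom_ext_chart hU (trivChart A U) ?_ ?_)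
  · rw [← Category.assoc, ← Category.assoc, strU_res, (push g hW).str, (push g hU).str, Category.assoc, strU_res]
  · rw [← Category.assoc, trivChart_resR, Category.assoc, push_spec]
    exact (((Category.assoc _ _ _).symm.trans (congrArg (· ≫ resR (triv x B) h) (push_spec g hU))).trans
      (trivChart_resR B h)).symm

variable {g} {W : X.Opens}

/-- A map followed by an automorphism. -/
def PHom.mulL {η : DefSch X x B} {ξ : DefSch X x A} (β : PHom g ξ η W) (φ : PHom (𝟙 B) η η W) : PHom g ξ η W where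
  φ := β.φ ≫ φ.φ
  str := by rw [← Category.assoc, β.str, Category.assoc, φ.str]; rfl
  π := by rw [Category.assoc, φ.π, β.π]

theorem PHom.mulL_res {η : DefSch X x B} {ξ : DefSch X x A} {U : X.Opens} (hU : IsAffineOpen U) (hW : IsAffineOpen W)
    (h : W ≤ U) (β : PHom g ξ η U) (φ : PHom (𝟙 B) η η U) :
    (β.mulL φ).res hU hW h = (β.res hU hW h).mulL (φ.res hU hW h) := by
  refine PHom.res_unique hU hW h _ _ ?_
  show resR ξ h ≫ (β.res hU hW h).φ ≫ (φ.res hU hW h).φ = (β.φ ≫ φ.φ) ≫ resR η h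
  rw [← Category.assoc, β.res_spec hU hW h, Category.assoc, φ.res_spec hU hW h, Category.assoc]

/-- Corresponding automorphisms. -/
def Inter (g : A ⟶ B) (hW : IsAffineOpen W) (φ : PHom (𝟙 A) (triv x A) (triv x A) W)
    (φ' : PHom (𝟙 B) (triv x B) (triv x B) W) : Prop :=
  φ.φ ≫ (push g hW).φ = (push g hW).φ ≫ φ'.φ

variable {hW : IsAffineOpen W}

theorem Inter.mul {φ ψ : PHom (𝟙 A) (triv x A) (triv x A) W} {φ' ψ' : PHom (𝟙 B) (triv x B) (triv x B) W}
    (h : Inter g hW φ φ') (h' : Inter g hW ψ ψ') : Inter g hW (φ.mul ψ) (φ'.mul ψ') := by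
  show (φ.φ ≫ ψ.φ) ≫ _ = _ ≫ φ'.φ ≫ ψ'.φ
  rw [Category.assoc, h', ← Category.assoc, h, Category.assoc]

theorem Inter.res {U : X.Opens} {hU : IsAffineOpen U} {φ : PHom (𝟙 A) (triv x A) (triv x A) U}
    {φ' : PHom (𝟙 B) (triv x B) (triv x B) U} (h : Inter g hU φ φ') (hle : W ≤ U) :
    Inter g hW (φ.res hU hW hle) (φ'.res hU hW hle) := by
  have e : φ.mulR (push g hU) = (push g hU).mulL φ' := PHom.ext h
  have e1 := congrArg (fun s => PHom.res hU hW hle s) e
  rw [PHom.mulR_res, PHom.mulL_res, push_res] at e1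
  exact congrArg PHom.φ e1

theorem exists_inter (hW : IsAffineOpen W) (φ : PHom (𝟙 A) (triv x A) (triv x A) W) :
    ∃ φ' : PHom (𝟙 B) (triv x B) (triv x B) W, Inter g hW φ φ' := by
  obtain ⟨φ', hφ'⟩ := exists_phom_of_charts (𝟙 B) hW (trivChart B W) ((φ.mulR (push g hW)).moveChart (trivChart A W))
  refine ⟨φ', hom_ext_chart hW (trivChart A W) ?_ ?_⟩
  · exact (φ.mulR (push g hW)).str.trans ((push g hW).mulL φ').str.symm
  · refine (hφ'.symm.trans ?_)
    exact ((congrArg (· ≫ φ'.φ) (push_spec g hW)).symm).trans (Category.assoc _ _ _)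

end Push

variable {C' C'' C : Art k k} {p : C' ⟶ C} {q : C'' ⟶ C} (hp : KilledKer p) (hq : KilledKer q)
  (hs : Function.Surjective p) (hs' : Function.Surjective q) {g : C' ⟶ C''}
  (gJ : kerP p →ₗ[k] kerP q) (hg : ∀ j, (gJ j : C'') = g (j : C'))

include hg in
theorem Cong.sect_inter {W : X.Opens} {hW : IsAffineOpen W} {φ φ' : PHom (𝟙 C') (triv x C') (triv x C') W}
    {ψ ψ' : PHom (𝟙 C'') (triv x C'') (triv x C'') W} (e : Inter g hW φ ψ) (e' : Inter g hW φ' ψ')
    (h : Cong hp hW φ φ') (h' : Cong hq hW ψ ψ') (l : kerP q →ₗ[k] k) : h'.sect l = h.sect (l.comp gJ) := by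
  refine val_ext x (𝟙 X) hW fun v => ?_
  letI := algV x W
  obtain ⟨r, rfl⟩ := piU_surjective (triv x C') hW v
  have hπ : piU (triv x C'') W ((push g hW).φ r) = piU (triv x C') W r := ConcreteCategory.congr_hom (push g hW).π r
  have hd : h'.diff (piU (triv x C') W r) =
      TensorProduct.map (AlgHom.id k Γ(X, W)).toLinearMap gJ (h.diff (piU (triv x C') W r)) := by
    rw [← hπ]
    refine h'.diff_eq _ _ ?_
    rw [hπ, ← mu_map hp hq (D' := ringD (triv x C') hW) (D₁ := ringD (triv x C'') hW) g.toAlgHom.toRingHom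
      (push g hW).φ.hom (fun c => ConcreteCategory.congr_hom (push g hW).str c) (AlgHom.id k _)
      (fun t => ConcreteCategory.congr_hom (push g hW).π t) gJ hg, h.mu_diff, map_sub]
    exact congrArg₂ (· - ·) (ConcreteCategory.congr_hom e' r) (ConcreteCategory.congr_hom e r)
  exact (h'.val_sect l _).trans (((congrArg (coef l) hd).trans
    (coef_map (AlgHom.id k Γ(X, W)) gJ l _)).trans (h.val_sect (l.comp gJ) _).symm)

variable {ξ : DefSch X x C} {ι : Type u} {V : ι → X.Opens} (hV : ∀ a, IsAffineOpen (V a))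
  {α : ∀ a, PHom p (triv x C') ξ (V a)} {β : ∀ a, PHom q (triv x C'') ξ (V a)}
  {φ : ∀ a b, PHom (𝟙 C') (triv x C') (triv x C') (V a ⊓ V b)}
  {ψ : ∀ a b, PHom (𝟙 C'') (triv x C'') (triv x C'') (V a ⊓ V b)}

theorem push_comp_res (hαβ : ∀ a, (push g (hV a)).φ ≫ (β a).φ = (α a).φ) {W : X.Opens} (hW : IsAffineOpen W) (a : ι)
    (ha : W ≤ V a) : (push g hW).φ ≫ ((β a).res (hV a) hW ha).φ = ((α a).res (hV a) hW ha).φ := by
  let ψ₁ : PHom p (triv x C') ξ W := ⟨(push g hW).φ ≫ ((β a).res (hV a) hW ha).φ, by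
    have h0 := congrArg (· ≫ resR ξ ha) (α a).str
    rw [← hαβ a] at h0
    obtain ⟨θ⟩ := exists_chart ξ (Category.id_comp x) hW
    rw [← Category.assoc, (push g hW).str, Category.assoc, ((β a).res (hV a) hW ha).str, ← Category.assoc]
    have h1 := (β a).str
    have h2 := (α a).str
    rw [← hαβ a, ← Category.assoc, (push g (hV a)).str, Category.assoc, h1, ← Category.assoc] at h2
    have h3 := congrArg (· ≫ resR ξ ha) h2
    simp only [Category.assoc, strU_res] at h3 ⊢
    exact h3, by rw [Category.assoc, ((β a).res (hV a) hW ha).π, (push g hW).π]⟩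
  refine (congrArg PHom.φ (PHom.res_unique (hV a) hW ha (α a) ψ₁ ?_)).symm
  show resR _ ha ≫ _ ≫ _ = _
  rw [← Category.assoc, ← push_res g (hV a) hW ha, (push g (hV a)).res_spec (hV a) hW ha, Category.assoc,
    (β a).res_spec (hV a) hW ha, ← Category.assoc, hαβ]

variable (hαβ : ∀ a, (push g (hV a)).φ ≫ (β a).φ = (α a).φ)

include hαβ in
theorem exists_trans_inter (hφ : IsTrans hV α φ) :
    ∃ ψ₀ : ∀ a b, PHom (𝟙 C'') (triv x C'') (triv x C'') (V a ⊓ V b), IsTrans hV β ψ₀ ∧
      ∀ a b, Inter g (affine_inf (y := x) (hV a) (hV b)) (φ a b) (ψ₀ a b) := by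
  choose ψ₀ hψ₀ using fun a b => exists_inter (g := g) (affine_inf (y := x) (hV a) (hV b)) (φ a b)
  refine ⟨ψ₀, fun a b => ?_, hψ₀⟩
  have hW := affine_inf (y := x) (hV a) (hV b)
  refine PHom.ext_chart hW (trivChart C'' _) ?_
  show _ ≫ (ψ₀ a b).φ ≫ _ = _
  have h1 : (push g hW).φ ≫ (ψ₀ a b).φ ≫ ((β b).res (hV b) hW inf_le_right).φ =
      ((α a).res (hV a) hW inf_le_left).φ := by
    rw [← Category.assoc, ← hψ₀ a b, Category.assoc, push_comp_res hV hαβ hW b inf_le_right]
    exact congrArg PHom.φ (hφ a b)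
  rw [← push_comp_res hV hαβ hW a inf_le_left] at h1
  rw [← push_spec g hW, Category.assoc, h1, ← Category.assoc]

variable (hφ : IsTrans hV α φ) (hψ : IsTrans hV β ψ) (l : kerP q →ₗ[k] k)

include hg in
theorem obsCo_inter (hi : ∀ a b, Inter g (affine_inf (y := x) (hV a) (hV b)) (φ a b) (ψ a b)) :
    obsCo hq hs' hV hψ l = obsCo hp hs hV hφ (l.comp gJ) := by
  funext t
  have hW := isAffineOpen_inter x hV 2 t
  refine Cong.sect_inter hp hq gJ hg ?_ ?_ _ _ l
  · exact ((hi _ _).res _).mul ((hi _ _).res _)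
  · exact (hi _ _).res _

variable (hcov : ⊤ ≤ iSup V) [IsLocallyNoetherian X] [LocallyOfFiniteType x]

include hαβ hg in
theorem obsH_map : obsH hq hs' hV hψ l hcov = obsH hp hs hV hφ (l.comp gJ) hcov := by
  obtain ⟨ψ₀, h1, h2⟩ := exists_trans_inter hV hαβ hφ
  rw [obsH_choice hq hs' hV hψ h1 l hcov]
  unfold obsH
  congr 2
  exact Subtype.ext (obsCo_inter hp hq hs hs' gJ hg hV hφ h1 l h2)

end Groth.Agent.DefExtLib
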