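import Groth.Agent.DefExtLib.ObsNat

/-! The obstruction functional of a deformation on the affine cover. -/

set_option autoImplicit false
set_option backward.isDefEq.respectTransparency false
set_option backward.isDefEq.respectTransparency.types false
set_option linter.style.haveILetI false

universe u

open CategoryTheory CategoryTheory.Limits AlgebraicGeometry TopologicalSpace Opposite ArtFun ArtFun.Art IsLocalRing
open scoped TensorProduct

noncomputable section

namespace Groth.Agent.DefExtLib

open LocHilbGlueLib DefGlueLib DefSchLib RigidLib DefClassLib CohBase H1ClassLib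

variable {k : Type u} [Field k] {X : Scheme.{u}} {x : X ⟶ specPt k} [Smooth x] [IsSeparated x]
  {C' C'' C : Art k k} (p : C' ⟶ C) (ξ : DefSch X x C)

/-- All affine opens. -/
abbrev affCov (X : Scheme.{u}) : X.affineOpens → X.Opens := fun U => U.1

theorem affCov_affine (U : X.affineOpens) : IsAffineOpen (affCov X U) := U.2

theorem affCov_cov : ⊤ ≤ iSup (affCov X) := (iSup_affineOpens_eq_top X).ge

/-- The chosen chart. -/
def chartOf (a : X.affineOpens) : Chart ξ x (𝟙 X) (affCov X a) :=
  (exists_chart ξ (Category.id_comp x) (affCov_affine a)).some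

/-- The chosen local model. -/
def alphaOf (a : X.affineOpens) : PHom p (triv x C') ξ (affCov X a) :=
  (exists_phom_of_charts p (affCov_affine a) (trivChart C' _) (chartOf ξ a)).choose

theorem alphaOf_spec (a : X.affineOpens) :
    (trivChart C' (affCov X a)).θ ≫ (alphaOf p ξ a).φ = (chartOf ξ a).θ :=
  (exists_phom_of_charts p (affCov_affine a) (trivChart C' _) (chartOf ξ a)).choose_spec

theorem exists_isTrans (hs : Function.Surjective p) :
    ∃ φ : ∀ a b, PHom (𝟙 C') (triv x C') (triv x C') (affCov X a ⊓ affCov X b),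
      IsTrans affCov_affine (alphaOf p ξ) φ := by
  choose φ hφ using fun a b => PHom.exists_lift hs (affine_inf (y := x) (affCov_affine a) (affCov_affine b))
    ((alphaOf p ξ a).res (affCov_affine a) (affine_inf (y := x) (affCov_affine a) (affCov_affine b)) inf_le_left)
    ((alphaOf p ξ b).res (affCov_affine b) (affine_inf (y := x) (affCov_affine a) (affCov_affine b)) inf_le_right)
  exact ⟨φ, fun a b => PHom.ext (hφ a b)⟩

variable [IsLocallyNoetherian X] [LocallyOfFiniteType x] (hp : KilledKer p) (hs : Function.Surjective p)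

/-- The obstruction functional. -/
def obsAt (l : kerP p →ₗ[k] k) : Coh.HH X (derSh x (𝟙 X)) 2 :=
  obsH hp hs affCov_affine (exists_isTrans p ξ hs).choose_spec l affCov_cov

theorem obsAt_add (l l' : kerP p →ₗ[k] k) : obsAt p ξ hp hs (l + l') = obsAt p ξ hp hs l + obsAt p ξ hp hs l' :=
  obsH_add hp hs _ _ l l' _

theorem obsAt_smul (c : k) (l : kerP p →ₗ[k] k) :
    obsAt p ξ hp hs (c • l) = Coh.toGlobal x c • obsAt p ξ hp hs l :=
  obsH_smul hp hs _ _ l _ c

theorem exists_lift_of_obsAt {ν : Type u} [Fintype ν] [DecidableEq ν] (bJ : Module.Basis ν k (kerP p))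
    (h0 : ∀ j, obsAt p ξ hp hs (bJ.coord j) = 0) : ∃ η : DefSch X x C', Nonempty (DefGlueLib.Mor p η ξ) :=
  exists_lift_iff hp hs _ _ affCov_cov bJ h0

theorem obsAt_eq_zero {η : DefSch X x C'} (n : DefGlueLib.Mor p η ξ) (l : kerP p →ₗ[k] k) :
    obsAt p ξ hp hs l = 0 :=
  obsH_eq_zero_of_lift hp hs _ _ l affCov_cov n

theorem obsAt_map (q : C'' ⟶ C) (hq : KilledKer q) (hs' : Function.Surjective q) (g : C' ⟶ C'') (hgq : g ≫ q = p)
    (gJ : kerP p →ₗ[k] kerP q) (hg : ∀ j, (gJ j : C'') = g (j : C')) (l : kerP q →ₗ[k] k) :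
    obsAt q ξ hq hs' l = obsAt p ξ hp hs (l.comp gJ) := by
  refine obsH_map hp hq hs hs' gJ hg affCov_affine (fun a => hom_ext_chart (affCov_affine a) (trivChart C' _) ?_ ?_)
    _ _ l affCov_cov
  · rw [← Category.assoc, (push g (affCov_affine a)).str, Category.assoc, (alphaOf q ξ a).str,
      (alphaOf p ξ a).str, ← Category.assoc, ← hgq]
    rfl
  · rw [← Category.assoc, push_spec, alphaOf_spec, alphaOf_spec]

end Groth.Agent.DefExtLib
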