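import Groth.Agent.DefExtLib.PHom
import Groth.Agent.DefExtLib.Class

/-! Congruent automorphisms of a deformation on affine opens and their differences. -/

set_option autoImplicit false
set_option backward.isDefEq.respectTransparency false
set_option backward.isDefEq.respectTransparency.types false
set_option linter.style.haveILetI false

universe u

open CategoryTheory CategoryTheory.Limits AlgebraicGeometry TopologicalSpace Opposite ArtFun ArtFun.Art IsLocalRing
open scoped TensorProduct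

noncomputable section

namespace Groth.Agent.DefExtLib

open LocHilbGlueLib DefGlueLib DefSchLib RigidLib DefClassLib

variable {k : Type u} [Field k] {X : Scheme.{u}} {x : X ⟶ specPt k} {C' C : Art k k} {p : C' ⟶ C}
  (hp : KilledKer p) {ξ : DefSch X x C'} {W : X.Opens} (hW : IsAffineOpen W)

/-- Two automorphisms agree modulo the kernel. -/
def Cong (φ φ' : PHom (𝟙 C') ξ ξ W) : Prop :=
  letI := algV x W
  ∃ δ : Γ(X, W) →+ Γ(X, W) ⊗[k] kerP p,
    (∀ r, mu hp (ringD ξ hW) (δ (piU ξ W r)) = φ'.φ r - φ.φ r) ∧ IsDer δ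

variable {hp hW}

theorem cong_of_comm (hs : Function.Surjective p) {ζ : DefSch X x C} (β : PHom p ξ ζ W) {φ φ' : PHom (𝟙 C') ξ ξ W}
    (e : φ.φ ≫ β.φ = φ'.φ ≫ β.φ) : Cong hp hW φ φ' := by
  letI := algV x W
  obtain ⟨δ, h1, h2, h3⟩ := exists_homDiff hp (β.hom hW) hs (φ.hom hW) (φ'.hom hW)
    fun r => ConcreteCategory.congr_hom e r
  exact ⟨δ, h1, h2, h3⟩

/-- The difference of congruent automorphisms. -/
def Cong.diff {φ φ' : PHom (𝟙 C') ξ ξ W} (h : Cong hp hW φ φ') :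
    letI := algV x W
    Γ(X, W) →+ Γ(X, W) ⊗[k] kerP p :=
  h.choose

theorem Cong.mu_diff {φ φ' : PHom (𝟙 C') ξ ξ W} (h : Cong hp hW φ φ') (r : Γ(ξ.total, imU ξ W)) :
    letI := algV x W
    mu hp (ringD ξ hW) (h.diff (piU ξ W r)) = φ'.φ r - φ.φ r :=
  h.choose_spec.1 r

theorem Cong.isDer {φ φ' : PHom (𝟙 C') ξ ξ W} (h : Cong hp hW φ φ') :
    letI := algV x W
    IsDer h.diff :=
  h.choose_spec.2

theorem Cong.diff_eq {φ φ' : PHom (𝟙 C') ξ ξ W} (h : Cong hp hW φ φ') (r : Γ(ξ.total, imU ξ W))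
    (a : letI := algV x W; Γ(X, W) ⊗[k] kerP p)
    (ha : letI := algV x W; mu hp (ringD ξ hW) a = φ'.φ r - φ.φ r) : h.diff (piU ξ W r) = a := by
  letI := algV x W
  exact mu_injective hp _ ((h.mu_diff r).trans ha.symm)

theorem Cong.diff_add {φ φ' φ'' : PHom (𝟙 C') ξ ξ W} (h : Cong hp hW φ φ') (h' : Cong hp hW φ' φ'')
    (h'' : Cong hp hW φ φ'') (v : Γ(X, W)) : h.diff v + h'.diff v = h''.diff v := by
  letI := algV x W
  obtain ⟨r, rfl⟩ := piU_surjective ξ hW v
  refine (h''.diff_eq r _ ?_).symm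
  rw [map_add, h.mu_diff, h'.mu_diff]
  abel

theorem Cong.diff_mul {φ φ' ψ ψ' : PHom (𝟙 C') ξ ξ W} (h : Cong hp hW φ φ') (h' : Cong hp hW ψ ψ')
    (h'' : Cong hp hW (φ.mul ψ) (φ'.mul ψ')) (v : Γ(X, W)) : h''.diff v = h.diff v + h'.diff v := by
  letI := algV x W
  obtain ⟨r, rfl⟩ := piU_surjective ξ hW v
  refine h''.diff_eq r _ ?_
  have e1 : ψ.φ (mu hp (ringD ξ hW) (h.diff (piU ξ W r))) = mu hp (ringD ξ hW) (h.diff (piU ξ W r)) := by
    refine (mu_map hp hp (D' := ringD ξ hW) (D₁ := ringD ξ hW) (RingHom.id C') (ψ.φ.hom)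
      (fun c => ConcreteCategory.congr_hom ψ.str c) (AlgHom.id k _)
      (fun t => ConcreteCategory.congr_hom ψ.π t) LinearMap.id (fun _ => rfl) _).trans ?_
    exact congrArg _ (LinearMap.congr_fun TensorProduct.map_id _)
  rw [h.mu_diff, map_sub] at e1
  have e2 := h'.mu_diff (φ'.φ r)
  rw [show piU ξ W (φ'.φ r) = piU ξ W r from ConcreteCategory.congr_hom φ'.π r] at e2
  show _ = ψ'.φ (φ'.φ r) - ψ.φ (φ.φ r)
  rw [map_add, h.mu_diff, ← e1, e2]
  abel

theorem Cong.mul {φ φ' ψ ψ' : PHom (𝟙 C') ξ ξ W} (h : Cong hp hW φ φ') (h' : Cong hp hW ψ ψ') :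
    Cong hp hW (φ.mul ψ) (φ'.mul ψ') := by
  letI := algV x W
  refine ⟨h.diff + h'.diff, fun r => ?_, ?_⟩
  · have e1 : ψ.φ (mu hp (ringD ξ hW) (h.diff (piU ξ W r))) = mu hp (ringD ξ hW) (h.diff (piU ξ W r)) := by
      refine (mu_map hp hp (D' := ringD ξ hW) (D₁ := ringD ξ hW) (RingHom.id C') (ψ.φ.hom)
        (fun c => ConcreteCategory.congr_hom ψ.str c) (AlgHom.id k _)
        (fun t => ConcreteCategory.congr_hom ψ.π t) LinearMap.id (fun _ => rfl) _).trans ?_
      exact congrArg _ (LinearMap.congr_fun TensorProduct.map_id _)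
    rw [h.mu_diff, map_sub] at e1
    have e2 := h'.mu_diff (φ'.φ r)
    rw [show piU ξ W (φ'.φ r) = piU ξ W r from ConcreteCategory.congr_hom φ'.π r] at e2
    show mu hp (ringD ξ hW) (h.diff (piU ξ W r) + h'.diff (piU ξ W r)) = ψ'.φ (φ'.φ r) - ψ.φ (φ.φ r)
    rw [map_add, h.mu_diff, ← e1, e2]
    abel
  · refine ⟨fun u v => ?_, fun c => ?_⟩
    · show h.diff (u * v) + h'.diff (u * v) = u • (h.diff v + h'.diff v) + v • (h.diff u + h'.diff u)
      rw [h.isDer.mul, h'.isDer.mul, smul_add, smul_add]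
      abel
    · show h.diff _ + h'.diff _ = 0
      rw [h.isDer.alg, h'.isDer.alg, add_zero]

theorem Cong.trans {φ φ' φ'' : PHom (𝟙 C') ξ ξ W} (h : Cong hp hW φ φ') (h' : Cong hp hW φ' φ'') :
    Cong hp hW φ φ'' := by
  letI := algV x W
  refine ⟨h.diff + h'.diff, fun r => ?_, ?_⟩
  · show mu hp (ringD ξ hW) (h.diff (piU ξ W r) + h'.diff (piU ξ W r)) = _
    rw [map_add, h.mu_diff, h'.mu_diff]
    abel
  · refine ⟨fun u v => ?_, fun c => ?_⟩
    · show h.diff (u * v) + h'.diff (u * v) = u • (h.diff v + h'.diff v) + v • (h.diff u + h'.diff u)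
      rw [h.isDer.mul, h'.isDer.mul, smul_add, smul_add]
      abel
    · show h.diff _ + h'.diff _ = 0
      rw [h.isDer.alg, h'.isDer.alg, add_zero]

theorem Cong.refl (φ : PHom (𝟙 C') ξ ξ W) : Cong hp hW φ φ := by
  letI := algV x W
  refine ⟨0, fun r => by simp, ⟨fun u v => by simp, fun c => by simp⟩⟩

theorem Cong.diff_res [Smooth x] [IsSeparated x] {V : X.Opens} {hV : IsAffineOpen V} (hle : W ≤ V)
    {φ φ' : PHom (𝟙 C') ξ ξ V} (h : Cong hp hV φ φ') (h' : Cong hp hW (φ.res hV hW hle) (φ'.res hV hW hle))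
    (v : Γ(X, V)) :
    letI := algV x W
    letI := algV x V
    ∀ (ρ : Γ(X, V) →ₐ[k] Γ(X, W)), (∀ t, ρ t = X.presheaf.map (homOfLE hle).op t) →
    h'.diff (X.presheaf.map (homOfLE hle).op v) = TensorProduct.map ρ.toLinearMap LinearMap.id (h.diff v) := by
  intro ρ hρ
  letI := algV x W
  letI := algV x V
  obtain ⟨r, rfl⟩ := piU_surjective ξ hV v
  rw [← CommRingCat.comp_apply, ← piU_res ξ hle, CommRingCat.comp_apply]
  refine h'.diff_eq _ _ ?_
  rw [← mu_map hp hp (D' := ringD ξ hV) (D₁ := ringD ξ hW) (RingHom.id C') (resR ξ hle).hom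
    (fun c => ConcreteCategory.congr_hom (strU_res ξ hle) c) ρ
    (fun t => (ConcreteCategory.congr_hom (piU_res ξ hle) t).trans (hρ _).symm) LinearMap.id (fun _ => rfl),
    h.mu_diff, map_sub]
  rw [← CommRingCat.comp_apply, ← CommRingCat.comp_apply, ← φ.res_spec hV hW hle, ← φ'.res_spec hV hW hle]
  rfl

variable [QuasiSeparated x]

theorem Cong.exists_sect {φ φ' : PHom (𝟙 C') ξ ξ W} (h : Cong hp hW φ φ') (l : kerP p →ₗ[k] k) :
    letI := algV x W
    ∃ s : Γ(derSh x (𝟙 X), W), ∀ r, vval s r = coef l (h.diff r) := by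
  letI := algV x W
  let D : Γ(X, W) →+ Γ(X, W) := (coef l).toAddMonoidHom.comp h.diff
  refine exists_val x (𝟙 X) hW D (fun r s => ?_) fun c => ?_
  · show coef l (h.diff (r * s)) = r * _ + s * _
    rw [h.isDer.mul, map_add, coef_smul, coef_smul]
    rfl
  · show coef l (h.diff (algR x W c)) = 0
    rw [show algR x W c = algebraMap k Γ(X, W) c from rfl, h.isDer.alg, map_zero]

/-- The difference as a section. -/
def Cong.sect {φ φ' : PHom (𝟙 C') ξ ξ W} (h : Cong hp hW φ φ') (l : kerP p →ₗ[k] k) : Γ(derSh x (𝟙 X), W) :=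
  (h.exists_sect l).choose

theorem Cong.val_sect {φ φ' : PHom (𝟙 C') ξ ξ W} (h : Cong hp hW φ φ') (l : kerP p →ₗ[k] k) (r : Γ(X, W)) :
    letI := algV x W
    vval (h.sect l) r = coef l (h.diff r) :=
  (h.exists_sect l).choose_spec r

theorem Cong.sect_add {φ φ' φ'' : PHom (𝟙 C') ξ ξ W} (h : Cong hp hW φ φ') (h' : Cong hp hW φ' φ'')
    (h'' : Cong hp hW φ φ'') (l : kerP p →ₗ[k] k) : h.sect l + h'.sect l = h''.sect l := by
  refine val_ext x (𝟙 X) hW fun r => ?_
  letI := algV x W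
  rw [val_add]
  exact (congrArg₂ (· + ·) (h.val_sect l r) (h'.val_sect l r)).trans
    (((map_add (coef l) _ _).symm.trans (congrArg (coef l) (h.diff_add h' h'' r))).trans (h''.val_sect l r).symm)

theorem Cong.sect_mul {φ φ' ψ ψ' : PHom (𝟙 C') ξ ξ W} (h : Cong hp hW φ φ') (h' : Cong hp hW ψ ψ')
    (h'' : Cong hp hW (φ.mul ψ) (φ'.mul ψ')) (l : kerP p →ₗ[k] k) : h''.sect l = h.sect l + h'.sect l := by
  refine val_ext x (𝟙 X) hW fun r => ?_
  letI := algV x W
  rw [val_add]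
  exact ((h''.val_sect l r).trans ((congrArg (coef l) (h.diff_mul h' h'' r)).trans (map_add (coef l) _ _))).trans
    (congrArg₂ (· + ·) (h.val_sect l r) (h'.val_sect l r)).symm

theorem Cong.sect_res [Smooth x] [IsSeparated x] {V : X.Opens} {hV : IsAffineOpen V} (hle : W ≤ V)
    {φ φ' : PHom (𝟙 C') ξ ξ V} (h : Cong hp hV φ φ') (h' : Cong hp hW (φ.res hV hW hle) (φ'.res hV hW hle))
    (l : kerP p →ₗ[k] k) : rD x (𝟙 X) hle (h.sect l) = h'.sect l := by
  letI := algV x V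
  letI := algV x W
  refine rD_eq x (𝟙 X) hW hV hle _ _ fun r => ?_
  let ρ : Γ(X, V) →ₐ[k] Γ(X, W) :=
    { (X.presheaf.map (homOfLE hle).op).hom with
      commutes' := fun c => ConcreteCategory.congr_hom (algR_res x hle) c }
  show vval _ _ = X.presheaf.map _ (vval _ r)
  rw [h'.val_sect, h.val_sect]
  exact (congrArg (coef l) (h.diff_res hle h' r ρ fun _ => rfl)).trans (coef_map ρ LinearMap.id l _)

theorem Cong.eq_of_sect {ν : Type u} [Fintype ν] (b : Module.Basis ν k (kerP p)) {φ φ' : PHom (𝟙 C') ξ ξ W}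
    (h : Cong hp hW φ φ') (e : ∀ j, h.sect (b.coord j) = 0) : φ = φ' := by
  letI := algV x W
  have hc : ∀ r j, coef (b.coord j) (h.diff r) = 0 := fun r j => by
    rw [← h.val_sect, e]
    exact val_zero x (𝟙 X) r
  have hd : ∀ r, h.diff r = 0 := fun r => by
    classical
    obtain ⟨c, hcs⟩ := TensorProduct.eq_repr_basis_right b (h.diff r)
    rw [← hcs]
    rw [Finsupp.sum]
    refine Finset.sum_eq_zero fun i hi => ?_
    have h1 := hc r i
    rw [← hcs, Finsupp.sum, map_sum] at h1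
    simp only [coef_tmul, Module.Basis.coord_apply, Module.Basis.repr_self, Finsupp.single_apply, ite_smul,
      one_smul, zero_smul, Finset.sum_ite_eq'] at h1
    by_cases hi' : i ∈ c.support
    · rw [if_pos hi'] at h1
      rw [h1, TensorProduct.zero_tmul]
    · exact absurd hi hi'
  refine PHom.ext (CommRingCat.hom_ext (RingHom.ext fun r => ?_))
  have h1 := h.mu_diff r
  rw [hd, map_zero] at h1
  exact (sub_eq_zero.mp h1.symm).symm

theorem Cong.exists_shift (hs : Function.Surjective p) {ζ : DefSch X x C} (β : PHom p ξ ζ W) (φ : PHom (𝟙 C') ξ ξ W)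
    {ν : Type u} [Fintype ν] [DecidableEq ν] (b : Module.Basis ν k (kerP p)) (s : ν → Γ(derSh x (𝟙 X), W)) :
    ∃ (φ' : PHom (𝟙 C') ξ ξ W) (h : Cong hp hW φ φ'), φ'.φ ≫ β.φ = φ.φ ≫ β.φ ∧ ∀ j, h.sect (b.coord j) = s j := by
  letI := algV x W
  let δ : Γ(X, W) →+ Γ(X, W) ⊗[k] kerP p :=
    AddMonoidHom.mk' (fun r => ∑ j, vval (s j) r ⊗ₜ[k] b j) fun r r' => by
      simp only [vval, val_add_right]
      rw [← Finset.sum_add_distrib]
      exact Finset.sum_congr rfl fun j _ => TensorProduct.add_tmul _ _ _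
  have hδ : IsDer δ := ⟨fun u v => by
    show ∑ j, vval (s j) (u * v) ⊗ₜ[k] b j = u • ∑ j, _ + v • ∑ j, _
    rw [Finset.smul_sum, Finset.smul_sum, ← Finset.sum_add_distrib]
    refine Finset.sum_congr rfl fun j _ => ?_
    rw [TensorProduct.smul_tmul', TensorProduct.smul_tmul', ← TensorProduct.add_tmul]
    exact congrArg (· ⊗ₜ[k] b j) (val_mul x (𝟙 X) (s j) u v), fun c => Finset.sum_eq_zero fun j _ => by
    rw [show vval (s j) (algebraMap k Γ(X, W) c) = 0 from val_algR x (𝟙 X) (s j) c, TensorProduct.zero_tmul]⟩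
  obtain ⟨F, h1, h2⟩ := exists_shiftHom hp (β.hom hW) hs (φ.hom hW) hδ
  let φ' : PHom (𝟙 C') ξ ξ W := ⟨CommRingCat.ofHom F.φ, CommRingCat.hom_ext (RingHom.ext F.φ_str),
    CommRingCat.hom_ext (RingHom.ext F.π_φ)⟩
  have e : φ'.φ ≫ β.φ = φ.φ ≫ β.φ := CommRingCat.hom_ext (RingHom.ext h2)
  refine ⟨φ', cong_of_comm hs β e.symm, e, fun j => val_ext x (𝟙 X) hW fun r => ?_⟩
  refine ((cong_of_comm (hp := hp) (hW := hW) hs β e.symm).val_sect (b.coord j) r).trans ?_
  obtain ⟨r, rfl⟩ := piU_surjective ξ hW r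
  rw [(cong_of_comm (hp := hp) (hW := hW) hs β e.symm).diff_eq r (δ (piU ξ W r))
    (by rw [show φ'.φ r = _ from h1 r]; exact (add_sub_cancel_left _ _).symm)]
  show coef (b.coord j) (∑ i, _ ⊗ₜ[k] b i) = _
  rw [map_sum, Finset.sum_eq_single j]
  · rw [coef_tmul, Module.Basis.coord_apply, Module.Basis.repr_self, Finsupp.single_eq_same, one_smul]
  · intro i _ hij
    rw [coef_tmul, Module.Basis.coord_apply, Module.Basis.repr_self, Finsupp.single_eq_of_ne (Ne.symm hij), zero_smul]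
  · exact fun h => absurd (Finset.mem_univ j) h

end Groth.Agent.DefExtLib
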