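import Groth.Agent.DefExtLib.Tangent

/-! Maps between deformations of a smooth scheme on one affine open, over a map of the coefficients. -/

set_option autoImplicit false
set_option backward.isDefEq.respectTransparency false
set_option backward.isDefEq.respectTransparency.types false
set_option linter.style.haveILetI false

universe u

open CategoryTheory CategoryTheory.Limits AlgebraicGeometry TopologicalSpace Opposite ArtFun ArtFun.Art IsLocalRing
open scoped TensorProduct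

noncomputable section

namespace Groth.Agent.DefExtLib

open LocHilbGlueLib DefGlueLib DefSchLib RigidLib DefClassLib

variable {k : Type u} [Field k] {X : Scheme.{u}} {x : X ⟶ specPt k} {A B C : Art k k} {g : A ⟶ B} {h : B ⟶ C}

/-- A map of the functions on one piece. -/
structure PHom (g : A ⟶ B) (ξ : DefSch X x A) (η : DefSch X x B) (W : X.Opens) : Type u where
  /-- the map -/
  φ : Γ(ξ.total, imU ξ W) ⟶ Γ(η.total, imU η W)
  str : strU ξ (imU ξ W) ≫ φ = CommRingCat.ofHom g.toAlgHom.toRingHom ≫ strU η (imU η W)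
  π : φ ≫ piU η W = piU ξ W

variable {ξ : DefSch X x A} {η : DefSch X x B} {θ' : DefSch X x C} {W : X.Opens}

theorem PHom.ext {φ φ' : PHom g ξ η W} (e : φ.φ = φ'.φ) : φ = φ' := by cases φ; cases φ'; subst e; rfl

/-- Composition. -/
def PHom.comp (φ : PHom g ξ η W) (ψ : PHom h η θ' W) : PHom (g ≫ h) ξ θ' W where
  φ := φ.φ ≫ ψ.φ
  str := by rw [← Category.assoc, φ.str, Category.assoc, ψ.str, ← Category.assoc]; rfl
  π := by rw [Category.assoc, ψ.π, φ.π]

/-- Composition of endomorphisms. -/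
def PHom.mul {ξ : DefSch X x A} (φ ψ : PHom (𝟙 A) ξ ξ W) : PHom (𝟙 A) ξ ξ W where
  φ := φ.φ ≫ ψ.φ
  str := by rw [← Category.assoc, φ.str, Category.assoc, ψ.str]; rfl
  π := by rw [Category.assoc, ψ.π, φ.π]

/-- The morphism of lifts. -/
def PHom.hom (hW : IsAffineOpen W) (φ : PHom g ξ η W) :
    letI := algV x W
    DefSchLib.Hom g (ringD ξ hW) (ringD η hW) :=
  letI := algV x W
  { φ := φ.φ.hom
    φ_str := fun a => ConcreteCategory.congr_hom φ.str a
    π_φ := fun r => ConcreteCategory.congr_hom φ.π r }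

/-- The chart moved by a map. -/
def PHom.moveChart (φ : PHom g ξ η W) (θ : Chart ξ x (𝟙 X) W) : Chart η x (𝟙 X) W where
  θ := θ.θ ≫ φ.φ
  π := by
    rw [Category.assoc]
    exact (congrArg (θ.θ ≫ ·) φ.π).trans θ.π
  alg := by
    rw [← Category.assoc, θ.alg, Category.assoc]
    refine (congrArg (_ ≫ ·) φ.str).trans ?_
    rw [← Category.assoc]
    exact congrArg (· ≫ _) (CommRingCat.hom_ext (RingHom.ext fun c => g.toAlgHom.commutes c))

theorem PHom.ext_chart (hW : IsAffineOpen W) (θ : Chart ξ x (𝟙 X) W) {φ φ' : PHom g ξ η W}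
    (e : θ.θ ≫ φ.φ = θ.θ ≫ φ'.φ) : φ = φ' :=
  PHom.ext (hom_ext_chart hW θ (φ.str.trans φ'.str.symm) e)

theorem exists_phom_of_charts (g : A ⟶ B) (hW : IsAffineOpen W) (θ : Chart ξ x (𝟙 X) W) (η₀ : Chart η x (𝟙 X) W) :
    ∃ φ : PHom g ξ η W, θ.θ ≫ φ.φ = η₀.θ := by
  letI := algV x W
  obtain ⟨F, hF⟩ := exists_hom_of_sections (isSection_chart hW θ) (isSection_chart hW η₀) g
  exact ⟨⟨CommRingCat.ofHom F.φ, CommRingCat.hom_ext (RingHom.ext F.φ_str),
    CommRingCat.hom_ext (RingHom.ext F.π_φ)⟩, CommRingCat.hom_ext (RingHom.ext hF)⟩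

variable [Smooth x] [IsSeparated x]

theorem exists_res_phom {V W : X.Opens} (hV : IsAffineOpen V) (hW : IsAffineOpen W) (hle : W ≤ V)
    (φ : PHom g ξ η V) : ∃ φ' : PHom g ξ η W, resR ξ hle ≫ φ'.φ = φ.φ ≫ resR η hle := by
  obtain ⟨θ⟩ := exists_chart ξ (Category.id_comp x) hV
  obtain ⟨φ', hφ'⟩ := exists_phom_of_charts g hW (θ.res ξ hV hW hle) ((φ.moveChart θ).res η hV hW hle)
  refine ⟨φ', hom_ext_chart hV θ ?_ ?_⟩
  · rw [← Category.assoc, ← Category.assoc, strU_res, φ'.str, φ.str, Category.assoc, strU_res]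
  · refine ((Category.assoc _ _ _).symm.trans (congrArg (· ≫ φ'.φ) (θ.res_spec ξ hV hW hle))).trans ?_
    refine (Category.assoc _ _ _).trans ((congrArg _ hφ').trans ?_)
    exact (((φ.moveChart θ).res_spec η hV hW hle).symm).trans (Category.assoc _ _ _)

/-- Restriction. -/
def PHom.res {V W : X.Opens} (hV : IsAffineOpen V) (hW : IsAffineOpen W) (hle : W ≤ V) (φ : PHom g ξ η V) :
    PHom g ξ η W :=
  (exists_res_phom hV hW hle φ).choose

theorem PHom.res_spec {V W : X.Opens} (hV : IsAffineOpen V) (hW : IsAffineOpen W) (hle : W ≤ V) (φ : PHom g ξ η V) :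
    resR ξ hle ≫ (φ.res hV hW hle).φ = φ.φ ≫ resR η hle :=
  (exists_res_phom hV hW hle φ).choose_spec

theorem PHom.res_unique {V W : X.Opens} (hV : IsAffineOpen V) (hW : IsAffineOpen W) (hle : W ≤ V)
    (φ : PHom g ξ η V) (φ' : PHom g ξ η W) (e : resR ξ hle ≫ φ'.φ = φ.φ ≫ resR η hle) :
    φ.res hV hW hle = φ' := by
  obtain ⟨θ⟩ := exists_chart ξ (Category.id_comp x) hV
  have key : ∀ ψ : PHom g ξ η W, resR ξ hle ≫ ψ.φ = φ.φ ≫ resR η hle →
      (φ.moveChart θ).res η hV hW hle = ψ.moveChart (θ.res ξ hV hW hle) := fun ψ he => by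
    refine Chart.res_unique η hV hW hle _ _ ?_
    show (θ.θ ≫ φ.φ) ≫ _ = _ ≫ (θ.res ξ hV hW hle).θ ≫ ψ.φ
    rw [Category.assoc]
    exact ((congrArg (θ.θ ≫ ·) he.symm).trans (Category.assoc _ _ _).symm).trans
      ((congrArg (· ≫ ψ.φ) (θ.res_spec ξ hV hW hle)).trans (Category.assoc _ _ _))
  exact PHom.ext_chart hW (θ.res ξ hV hW hle)
    (congrArg Chart.θ ((key _ (φ.res_spec hV hW hle)).symm.trans (key _ e)))

theorem PHom.res_res {V V' V'' : X.Opens} (hV : IsAffineOpen V) (hV' : IsAffineOpen V') (hV'' : IsAffineOpen V'')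
    (h₁ : V' ≤ V) (h₂ : V'' ≤ V') (φ : PHom g ξ η V) :
    (φ.res hV hV' h₁).res hV' hV'' h₂ = φ.res hV hV'' (h₂.trans h₁) := by
  refine (PHom.res_unique hV hV'' (h₂.trans h₁) φ _ ?_).symm
  have e1 : ∀ {D : Art k k} (σ : DefSch X x D), resR σ (h₂.trans h₁) = resR σ h₁ ≫ resR σ h₂ := fun σ => by
    simp only [resR, ← Functor.map_comp]
    rfl
  rw [e1, e1, Category.assoc, (φ.res hV hV' h₁).res_spec hV' hV'' h₂, ← Category.assoc, φ.res_spec hV hV' h₁,
    Category.assoc]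

theorem PHom.mul_res {ξ : DefSch X x A} {V W : X.Opens} (hV : IsAffineOpen V) (hW : IsAffineOpen W) (hle : W ≤ V)
    (φ ψ : PHom (𝟙 A) ξ ξ V) : (φ.mul ψ).res hV hW hle = (φ.res hV hW hle).mul (ψ.res hV hW hle) := by
  refine PHom.res_unique hV hW hle _ _ ?_
  show resR ξ hle ≫ (φ.res hV hW hle).φ ≫ (ψ.res hV hW hle).φ = (φ.φ ≫ ψ.φ) ≫ resR ξ hle
  rw [← Category.assoc, φ.res_spec hV hW hle, Category.assoc, ψ.res_spec hV hW hle, Category.assoc]

theorem PHom.exists_lift {A' A₀ : Art k k} {p : A' ⟶ A₀} (hs : Function.Surjective p) {ξ η : DefSch X x A'}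
    {ζ : DefSch X x A₀} (hW : IsAffineOpen W) (α : PHom p ξ ζ W) (β : PHom p η ζ W) :
    ∃ φ : PHom (𝟙 A') ξ η W, φ.φ ≫ β.φ = α.φ := by
  obtain ⟨θ⟩ := exists_chart ξ (Category.id_comp x) hW
  letI := algV x W
  let H := β.hom hW
  letI : Algebra k Γ(η.total, imU η W) :=
    (CommRingCat.ofHom (algebraMap k A') ≫ strU η (imU η W)).hom.toAlgebra
  letI : Algebra k Γ(ζ.total, imU ζ W) :=
    (CommRingCat.ofHom (algebraMap k A₀) ≫ strU ζ (imU ζ W)).hom.toAlgebra
  let Φ : Γ(η.total, imU η W) →ₐ[k] Γ(ζ.total, imU ζ W) :=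
    { β.φ.hom with
      commutes' := fun c => (H.φ_str _).trans (congrArg (strU ζ _) (p.toAlgHom.commutes c)) }
  let G : Γ(X, W) →ₐ[k] Γ(ζ.total, imU ζ W) :=
    { (α.moveChart θ).θ.hom with commutes' := fun c => ConcreteCategory.congr_hom (α.moveChart θ).alg c }
  haveI : Algebra.Smooth k Γ(X, W) := by
    have h1 := x.smooth_appLE (isAffineOpen_top _) hW (le_top : W ≤ x ⁻¹ᵁ ⊤)
    exact RingHom.Smooth.respectsIso.2 (f := (x.appLE ⊤ W le_top).hom)
      (Scheme.ΓSpecIso (CommRingCat.of k)).symm.commRingCatIsoToRingEquiv h1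
  have hsΦ : Function.Surjective Φ := H.surjective_φ hs
  have hnil : IsNilpotent (RingHom.ker (Φ : Γ(η.total, imU η W) →+* Γ(ζ.total, imU ζ W))) := by
    obtain ⟨N, hN⟩ := isNilpotent_piU η hW
    refine ⟨N, ?_⟩
    rw [Ideal.zero_eq_bot] at hN ⊢
    refine le_bot_iff.mp (le_trans (Ideal.pow_right_mono (fun r hr => ?_) N) hN.le)
    show piU η W r = 0
    rw [← (show piU ζ W (β.φ r) = piU η W r from H.π_φ r), show β.φ r = 0 from hr, map_zero]
  let F := Algebra.FormallySmooth.liftOfSurjective G Φ hsΦ hnil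
  have hF : ∀ r, β.φ (F r) = α.φ (θ.θ r) := fun r =>
    Algebra.FormallySmooth.liftOfSurjective_apply G Φ hsΦ _ r
  have hπ : ∀ r, piU η W (F r) = r := fun r =>
    ((H.π_φ (F r)).symm.trans (congrArg (piU ζ W) (hF r))).trans
      (ConcreteCategory.congr_hom (α.moveChart θ).π r)
  obtain ⟨φ, hφ⟩ := exists_phom_of_charts (𝟙 A') hW θ
    ({ θ := CommRingCat.ofHom F.toRingHom
       π := CommRingCat.hom_ext (RingHom.ext hπ)
       alg := CommRingCat.hom_ext (RingHom.ext F.commutes) } : Chart η x (𝟙 X) W)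
  refine ⟨φ, hom_ext_chart hW θ ?_ ?_⟩
  · rw [← Category.assoc, φ.str, Category.assoc, β.str, α.str]
    rfl
  · rw [← Category.assoc, hφ]
    exact CommRingCat.hom_ext (RingHom.ext hF)

end Groth.Agent.DefExtLib
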