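import Groth.Agent.DefExtLib.Classify
import Groth.Agent.DefExtLib.OmegaExt
import Groth.Agent.ArtFunLib.Basic

/-! Rigidity of smooth separated schemes and the first cohomology of the vector fields. -/

set_option autoImplicit false
set_option backward.isDefEq.respectTransparency false
set_option backward.isDefEq.respectTransparency.types false
set_option linter.style.haveILetI false

universe u

open CategoryTheory CategoryTheory.Limits AlgebraicGeometry TopologicalSpace Opposite ArtFun ArtFun.Art IsLocalRing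

noncomputable section

namespace Groth.Agent.DefExtLib

open LocHilbGlueLib DefGlueLib DefSchLib RigidLib DefClassLib CohBase H1ClassLib

variable {k : Type u} [Field k] {X : Scheme.{u}} {x : X ⟶ specPt k} [Smooth x] [IsSeparated x]

/-- The map between trivial deformations. -/
def trivMap {A B : Art k k} (g : A ⟶ B) : DefGlueLib.Mor g (triv x A) (triv x B) where
  ψ := pullback.lift (projX B) ((triv x B).f ≫ specMap g) (by
    rw [show projX B ≫ (DefSch.self X x flat_x).f = (triv x B).f ≫ specMap (ofBase B) from pullback.condition,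
      Category.assoc, ← specMap_comp]
    congr 2
    exact Art.hom_ext (AlgHom.ext fun c => (g.toAlgHom.commutes c).symm))
  w := pullback.lift_snd _ _ _
  i := by
    apply pullback.hom_ext
    · rw [Category.assoc, pullback.lift_fst]
      exact (DefSch.baseChange_i_fst (pt x) (ofBase B)).trans (DefSch.baseChange_i_fst (pt x) (ofBase A)).symm
    · rw [Category.assoc, pullback.lift_snd, ← Category.assoc, (triv x B).i_f, Category.assoc, specRes_comp]
      exact (triv x A).i_f.symm

/-- The extensions of a deformation over the point are trivial. -/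
def toPt' (ξ : DefSch X x (base k k)) : DefGlueLib.Mor (𝟙 (base k k)) ξ (pt x) where
  ψ := ξ.i
  w := by
    rw [specMap_id, Category.comp_id]
    exact ξ.i_f.trans (comp_specRes_base x)
  i := Category.id_comp _

theorem subsingleton_step [Subsingleton (Coh.HH X (derSh x (𝟙 X)) 1)] {A B : Art k k} {p : B ⟶ A}
    (hp : KilledKer p) (hs : Function.Surjective p)
    (ih : ∀ ξ : DefSch X x A, Nonempty (ξ.Iso (triv x A))) (ξ : DefSch X x B) : Nonempty (ξ.Iso (triv x B)) := by
  obtain ⟨e⟩ := ih (ξ.baseChange p)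
  let m : DefGlueLib.Mor p ξ (triv x A) :=
    { ψ := e.iso.inv ≫ pullback.fst ξ.f (specMap p)
      w := (extMor ⟨ξ, e⟩).w
      i := (extMor ⟨ξ, e⟩).i }
  obtain ⟨μ, -⟩ := extIso_of_rc_eq_zero hp hs (m := m) (n := trivMap p) (V := fun U : X.affineOpens => (U : X.Opens))
    (fun U => U.2) (iSup_affineOpens_eq_top X).ge fun l => Subsingleton.elim _ _
  exact ⟨μ.iso.symm⟩

theorem killedKer_of_isSmallExt {A B : Art k k} {p : B ⟶ A} (h : IsSmallExt p) : KilledKer p :=
  fun _ ha _ hj => Ideal.mem_bot.mp (h.2.2.2 ▸ Ideal.mul_mem_mul ha hj)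

theorem trivial_of_subsingleton [Subsingleton (Coh.HH X (derSh x (𝟙 X)) 1)] {A : Art k k} (ξ : DefSch X x A) :
    Nonempty (ξ.Iso (triv x A)) := by
  have key := ArtFunLib.surjective_induction
    (P := fun A B (_ : B ⟶ A) => (∀ ξ : DefSch X x A, Nonempty (ξ.Iso (triv x A))) →
      ∀ ξ : DefSch X x B, Nonempty (ξ.Iso (triv x B)))
    (fun A B e he => subsingleton_step (p := e) (fun a _ j hj => by
      rw [(injective_iff_map_eq_zero e.toAlgHom).1 (ArtFunLib.bijective_of_isIso e).1 j (RingHom.mem_ker.mp hj), mul_zero])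
      (ArtFunLib.bijective_of_isIso e).2)
    (fun A B p hp => subsingleton_step (killedKer_of_isSmallExt hp) hp.1)
    (fun A B C p q _ _ hP hQ h => hP (hQ h))
    (toBase A) A.res_surjective
  exact key (fun ζ => ⟨(toPt' ζ).iso.symm.trans (toPt' (triv x (base k k))).iso⟩) ξ

omit [Smooth x] [IsSeparated x] in
theorem cls_iso [Smooth x] [IsSeparated x] {ι : Type u} {V : ι → X.Opens} (hV : ∀ a, IsAffineOpen (V a))
    (hcov : ⊤ ≤ iSup V) {A : Art k k} (hA : SqZero A) (l : kerM A →ₗ[k] k) {ξ ξ' : DefSch X x A} (e : ξ'.Iso ξ) :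
    cls (Category.id_comp x) hV ξ' hA l hcov = cls (Category.id_comp x) hV ξ hA l hcov := by
  rw [cls_push (Category.id_comp x) hV hA hcov (Mor.ofIso e) hA l,
    show l.comp (kerMap (𝟙 A)) = l from LinearMap.ext fun j => congrArg l (kerMap_id j)]

theorem overlap_triv {ι : Type u} {V : ι → X.Opens} (hV : ∀ a, IsAffineOpen (V a)) {A : Art k k} (hA : SqZero A)
    (l : kerM A →ₗ[k] k) (a b : ι) :
    overlap (Category.id_comp x) hV (fun a => trivChart A (V a)) hA l a b = 0 := by
  have hW := affine_inf (y := x) (hV a) (hV b)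
  unfold overlap
  rw [trivChart_res A (hV a) hW inf_le_left, trivChart_res A (hV b) hW inf_le_right]
  have e2 := diffSect_cocycle (Category.id_comp x) hA hW (trivChart A (V a ⊓ V b)) (trivChart A (V a ⊓ V b))
    (trivChart A (V a ⊓ V b)) l
  exact add_eq_left.mp e2

theorem cls_triv {ι : Type u} {V : ι → X.Opens} (hV : ∀ a, IsAffineOpen (V a)) (hcov : ⊤ ≤ iSup V) {A : Art k k}
    (hA : SqZero A) (l : kerM A →ₗ[k] k) : cls (Category.id_comp x) hV (triv x A) hA l hcov = 0 := by
  refine (cls_eq (Category.id_comp x) hV (fun a => trivChart A (V a)) hA l hcov).trans ?_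
  refine (congrArg (clsHom hcov) (Subtype.ext (funext fun a => funext fun b => overlap_triv hV hA l a b) :
    cocy (Category.id_comp x) hV (fun a => trivChart A (V a)) hA l = 0)).trans (map_zero _)

theorem subsingleton_of_trivial [IsLocallyNoetherian X] [LocallyOfFiniteType x]
    (h : ∀ ξ : DefSch X x (dual k k), Nonempty (ξ.Iso (triv x (dual k k)))) :
    Subsingleton (Coh.HH X (derSh x (𝟙 X)) 1) := by
  suffices H : ∀ z : Coh.HH X (derSh x (𝟙 X)) 1, z = 0 from ⟨fun a b => (H a).trans (H b).symm⟩
  intro z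
  have hV : ∀ U : X.affineOpens, IsAffineOpen (U : X.Opens) := fun U => U.2
  have hcov : (⊤ : X.Opens) ≤ ⨆ U : X.affineOpens, (U : X.Opens) := (iSup_affineOpens_eq_top X).ge
  obtain ⟨c, rfl⟩ := clsHom_surjective hcov (acyclic_derAb hV) z
  have hb : Function.Bijective (lEps k) := ⟨(injective_iff_map_eq_zero _).2 fun j hj => Subtype.ext
    (TrivSqZeroExt.ext (R := k) (M := k) (RingHom.mem_ker.mp j.2) hj),
    fun a => ⟨a • epsJ, by rw [map_smul, lEps_epsJ, smul_eq_mul, mul_one]⟩⟩
  let bJ : Module.Basis PUnit.{u + 1} k (kerM (dual k k)) :=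
    (Module.Basis.singleton PUnit.{u + 1} k).map (LinearEquiv.ofBijective (lEps k) hb).symm
  obtain ⟨η, hη⟩ := exists_cls_eq hV hcov sqZero_dual bJ c
  obtain ⟨e⟩ := h η
  rw [← hη, cls_iso hV hcov sqZero_dual _ e, cls_triv]

end Groth.Agent.DefExtLib
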