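import Groth.Agent.DefExtLib.HomIso
import Groth.Agent.DefClassLib.Sect
import Groth.Agent.DerTanLib.HomDer
import Groth.Agent.BCLib.HHMap

/-! The sheaf of vector fields as the internal dual of the differentials. -/

set_option autoImplicit false
set_option backward.isDefEq.respectTransparency false
set_option backward.isDefEq.respectTransparency.types false
set_option linter.style.haveILetI false

universe u

open CategoryTheory CategoryTheory.Limits AlgebraicGeometry TopologicalSpace Opposite ArtFun ArtFun.Art
open Groth.Agent.StalkHomLib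

noncomputable section

namespace Groth.Agent.DefExtLib

open DefClassLib LocHilbGlueLib

variable {k : Type u} [Field k] {X : Scheme.{u}} (x : X ⟶ specPt k) [QuasiSeparated x]

theorem nonempty_derSh_iso [DCoh.HasSheafHom (Omega.sheaf x)] :
    Nonempty (derSh x (𝟙 X) ≅ (DCoh.sheafHom (Omega.sheaf x)).obj (Coh.structureModule X)) := by
  haveI : ModSite.HasSheafHom (O := X.sheaf) (Omega.sheaf x) := ModTensor.hasSheafHom (O := X.sheaf) _
  haveI := OmegaAffLib.isQCoh_omega x
  haveI := isIso_toHomSh (Omega.sheaf x) (pushO (𝟙 X))
  exact ⟨(asIso (toHomSh (Omega.sheaf x) (pushO (𝟙 X)))).symm ≪≫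
    (hF (Omega.sheaf x)).mapIso ((Scheme.Modules.pushforwardId X).app (Coh.structureModule X)) ≪≫
    DerTanLib.hFIso (Omega.sheaf x)⟩

end Groth.Agent.DefExtLib
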