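import Groth.Agent.DefExtLib.Twist
import Groth.Agent.CohBase.Affine

/-! Every class is the relative class of some extension. -/

set_option autoImplicit false
set_option backward.isDefEq.respectTransparency false
set_option backward.isDefEq.respectTransparency.types false
set_option linter.style.haveILetI false

universe u

open CategoryTheory CategoryTheory.Limits AlgebraicGeometry TopologicalSpace Opposite ArtFun ArtFun.Art IsLocalRing

noncomputable section

namespace Groth.Agent.DefExtLib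

open LocHilbGlueLib DefGlueLib DefSchLib RigidLib DefClassLib H1ClassLib CohBase

variable {k : Type u} [Field k] {X : Scheme.{u}} {x : X ⟶ specPt k} [Smooth x] [IsSeparated x]
  {C' C : Art k k} {p : C' ⟶ C} (hp : KilledKer p) (hs : Function.Surjective p)
  {ξ : DefSch X x C'} {ζ : DefSch X x C} (m : DefGlueLib.Mor p ξ ζ)

theorem Loc.refl_res {U W : X.Opens} (hU : IsAffineOpen U) (hW : IsAffineOpen W) (h : W ≤ U) :
    (Loc.refl m U).res hU hW h = Loc.refl m W :=
  Loc.res_unique hU hW h _ _ ((Category.comp_id _).trans (Category.id_comp _).symm)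

theorem Loc.refl_comp_refl (W : X.Opens) : (Loc.refl m W).comp (Loc.refl m W) = Loc.refl m W :=
  Loc.ext (Category.comp_id _)

variable {m}

theorem locSect_refl_comp {W : X.Opens} (hW : IsAffineOpen W) (α β : Loc m m W) (l : kerP p →ₗ[k] k) :
    locSect hp hs hW (Loc.refl m W) (α.comp β) l =
      locSect hp hs hW (Loc.refl m W) α l + locSect hp hs hW (Loc.refl m W) β l := by
  conv_lhs => rw [← Loc.refl_comp_refl m W]
  exact locSect_comp hp hs hW _ _ _ _ l

theorem locSect_self {ξ' : DefSch X x C'} {n : DefGlueLib.Mor p ξ' ζ} {W : X.Opens} (hW : IsAffineOpen W)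
    (α : Loc m n W) (l : kerP p →ₗ[k] k) : locSect hp hs hW α α l = 0 :=
  add_eq_left.mp (locSect_cocycle hp hs hW α α α l)

theorem eq_of_locSect_refl {W : X.Opens} (hW : IsAffineOpen W) {ν : Type u} [Fintype ν]
    (b : Module.Basis ν k (kerP p)) (α β : Loc m m W)
    (h : ∀ j, locSect hp hs hW (Loc.refl m W) α (b.coord j) = locSect hp hs hW (Loc.refl m W) β (b.coord j)) :
    α = β := by
  refine eq_of_locSect_basis hp hs hW α β b fun j => ?_
  have e := locSect_cocycle hp hs hW (Loc.refl m W) α β (b.coord j)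
  rw [← h j] at e
  exact add_eq_left.mp e

variable {ι : Type u} {V : ι → X.Opens} (hV : ∀ a, IsAffineOpen (V a)) {ν : Type u} [Fintype ν] [DecidableEq ν]
  (bJ : Module.Basis ν k (kerP p)) (d : ν → pairs V (derAb x (𝟙 X)))

theorem pairs_self (c : pairs V (derAb x (𝟙 X))) (a : ι) (W : X.Opens) (ha : W ≤ V a) :
    rD x (𝟙 X) (le_inf ha ha) (c.1 a a) = 0 := by
  have h := congrArg (fun t => rD x (𝟙 X) (le_inf (le_inf ha ha) ha) t) (c.2 a a a)
  simp only [← res_derAb, map_add, CohBase.res_res] at h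
  exact add_eq_left.mp h

theorem pairs_cocycle (c : pairs V (derAb x (𝟙 X))) (a b e : ι) (W : X.Opens) (ha : W ≤ V a) (hb : W ≤ V b)
    (he : W ≤ V e) :
    rD x (𝟙 X) (le_inf ha hb) (c.1 a b) + rD x (𝟙 X) (le_inf hb he) (c.1 b e) =
      rD x (𝟙 X) (le_inf ha he) (c.1 a e) := by
  have h := congrArg (fun t => rD x (𝟙 X) (le_inf (le_inf ha hb) he) t) (c.2 a b e)
  simp only [← res_derAb, map_add, CohBase.res_res] at h
  exact h

include hp hs in
variable (m) in
theorem exists_auto : ∃ T : Auto m V, ∀ (a b : ι) (W : X.Opens) (hW : IsAffineOpen W) (ha : W ≤ V a) (hb : W ≤ V b)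
    (j : ν), locSect hp hs hW (Loc.refl m W) (T.τ a b W hW ha hb) (bJ.coord j) =
      -rD x (𝟙 X) (le_inf ha hb) ((d j).1 a b) := by
  choose τ hτ using fun (a b : ι) (W : X.Opens) (hW : IsAffineOpen W) (ha : W ≤ V a) (hb : W ≤ V b) =>
    exists_shiftLoc_sect hp hs hW (Loc.refl m W) bJ fun j => -rD x (𝟙 X) (le_inf ha hb) ((d j).1 a b)
  refine ⟨⟨τ, fun a b e W hW ha hb he => ?_, fun a W hW ha => ?_, fun a b U W hU hW h ha hb => ?_⟩, hτ⟩
  · refine congrArg Loc.φ (eq_of_locSect_refl hp hs hW bJ ((τ a b W hW ha hb).comp (τ b e W hW hb he)) _ fun j => ?_)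
    rw [locSect_refl_comp, hτ, hτ, hτ, ← neg_add, pairs_cocycle (d j) a b e W ha hb he]
  · refine congrArg Loc.φ (eq_of_locSect_refl hp hs hW bJ (τ a a W hW ha ha) (Loc.refl m W) fun j => ?_)
    rw [hτ, locSect_self, pairs_self (d j) a W ha, neg_zero]
  · have e : (τ a b U hU ha hb).res hU hW h = τ a b W hW (h.trans ha) (h.trans hb) := by
      refine eq_of_locSect_refl hp hs hW bJ _ _ fun j => ?_
      rw [← Loc.refl_res m hU hW h, ← rD_locSect hp hs hU hW h, hτ, Loc.refl_res m hU hW h, hτ, map_neg,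
        ← res_derAb, ← res_derAb, ← res_derAb, CohBase.res_res]
    rw [← e]
    exact (τ a b U hU ha hb).res_spec hU hW h

theorem locSect_tau {η : DefSch X x C'} {n : DefGlueLib.Mor p η ζ} {W : X.Opens} (hW : IsAffineOpen W)
    (γ α β : Loc m m W) (L : Loc m n W) (h : γ = α.comp β) (l : kerP p →ₗ[k] k) :
    locSect hp hs hW (γ.comp L) (β.comp L) l = -locSect hp hs hW (Loc.refl m W) α l := by
  subst h
  rw [locSect_comp, locSect_self, add_zero]
  have c := locSect_cocycle hp hs hW (Loc.refl m W) (α.comp β) β l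
  rw [locSect_refl_comp, add_right_comm, add_eq_right] at c
  rw [eq_neg_iff_add_eq_zero, add_comm]
  exact c

theorem rD_realised [Fact (IsSub (Fine V))] {T : Auto m V}
    (hT : ∀ (a b : ι) (W : X.Opens) (hW : IsAffineOpen W) (ha : W ≤ V a) (hb : W ≤ V b) (j : ν),
      locSect hp hs hW (Loc.refl m W) (T.τ a b W hW ha hb) (bJ.coord j) = -rD x (𝟙 X) (le_inf ha hb) ((d j).1 a b))
    (j : ν) (a b : ι) (W : Sub (Fine V)) (fa : W ⟶ memb hV a) (fb : W ⟶ memb hV b) (hle : W.1.toOpens ≤ V a ⊓ V b) :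
    rD x (𝟙 X) hle (rOverlap hp hs hV (T.locMem hV) (bJ.coord j) a b) = rD x (𝟙 X) hle ((d j).1 a b) := by
  have h1 := rD_rOverlap hp hs hV (T.locMem hV) (bJ.coord j) a b W.1.2
    (Scheme.AffineZariskiSite.toOpens_mono fa.le) (Scheme.AffineZariskiSite.toOpens_mono fb.le)
  refine h1.trans ?_
  rw [T.locMem_res hV a fa, T.locMem_res hV b fb]
  refine (locSect_tau hp hs W.1.2 (T.τ a _ _ _ _ _) (T.τ a b W.1.toOpens W.1.2
    (Scheme.AffineZariskiSite.toOpens_mono fa.le) (Scheme.AffineZariskiSite.toOpens_mono fb.le))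
    (T.τ b _ _ _ _ _) (T.loc W) (Loc.ext (T.comp _ _ _ _ _ _ _ _).symm) _).trans ?_
  rw [hT, neg_neg]

include hp hs hV in
theorem exists_realised (hcov : ⊤ ≤ iSup V) :
    ∃ (η : DefSch X x C') (n : DefGlueLib.Mor p η ζ) (φ : ∀ a, Loc m n (V a)),
      ∀ j a b, rOverlap hp hs hV φ (bJ.coord j) a b = (d j).1 a b := by
  haveI : Fact (IsSub (Fine V)) := ⟨isSub_fine V hcov⟩
  obtain ⟨T, hT⟩ := exists_auto hp hs m bJ d
  refine ⟨T.twist, T.mor, T.locMem hV, fun j a b => ?_⟩
  have hloc : ∀ q ∈ V a ⊓ V b, ∃ (W : Sub (Fine V)) (_ : W ⟶ memb hV a) (_ : W ⟶ memb hV b), q ∈ W.1.toOpens :=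
    fun q hq => SFam.exists_common (P := Fine V) (U₁ := memb hV a) (U₂ := memb hV b) hq.1 hq.2
  choose W fa fb hmem using hloc
  refine TopCat.Sheaf.eq_of_locally_eq' ⟨(derSh x (𝟙 X)).presheaf, (derSh x (𝟙 X)).isSheaf⟩
    (fun q : (V a ⊓ V b : X.Opens) => (W q.1 q.2).1.toOpens) (V a ⊓ V b)
    (fun q => homOfLE (le_inf (Scheme.AffineZariskiSite.toOpens_mono (fa q.1 q.2).le)
      (Scheme.AffineZariskiSite.toOpens_mono (fb q.1 q.2).le)))
    (fun q hq => Opens.mem_iSup.mpr ⟨⟨q, hq⟩, hmem q hq⟩) _ _ fun q => ?_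
  exact rD_realised hp hs hV bJ d hT j a b (W q.1 q.2) (fa q.1 q.2) (fb q.1 q.2) _

end Groth.Agent.DefExtLib
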