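import Groth.Agent.DefExtLib.SubChart
import Groth.Agent.DefExtLib.Inj

/-! Twisting an extension by a cocycle of automorphisms. -/

set_option autoImplicit false
set_option backward.isDefEq.respectTransparency false
set_option backward.isDefEq.respectTransparency.types false
set_option linter.style.haveILetI false

universe u

open CategoryTheory CategoryTheory.Limits AlgebraicGeometry TopologicalSpace Opposite ArtFun ArtFun.Art IsLocalRing

noncomputable section

namespace Groth.Agent.DefExtLib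

open LocHilbGlueLib DefGlueLib DefSchLib RigidLib DefClassLib

variable {k : Type u} [Field k] {X : Scheme.{u}} {x : X ⟶ specPt k} [Smooth x] [IsSeparated x]
  {C' C : Art k k} {p : C' ⟶ C} {ξ : DefSch X x C'} {ζ : DefSch X x C} (m : DefGlueLib.Mor p ξ ζ)
  {ι : Type u} (V : ι → X.Opens)

/-- The identity. -/
def Loc.refl (W : X.Opens) : Loc m m W where
  φ := 𝟙 _
  str := Category.comp_id _
  π := Category.id_comp _
  comm := Category.id_comp _

/-- A cocycle of automorphisms. -/
structure Auto : Type u where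
  /-- the automorphisms -/
  τ : ∀ (a b : ι) (W : X.Opens), IsAffineOpen W → W ≤ V a → W ≤ V b → Loc m m W
  comp : ∀ (a b d : ι) (W : X.Opens) (hW : IsAffineOpen W) (ha : W ≤ V a) (hb : W ≤ V b) (hd : W ≤ V d),
    (τ a b W hW ha hb).φ ≫ (τ b d W hW hb hd).φ = (τ a d W hW ha hd).φ
  self : ∀ (a : ι) (W : X.Opens) (hW : IsAffineOpen W) (ha : W ≤ V a), (τ a a W hW ha ha).φ = 𝟙 _
  nat : ∀ (a b : ι) (U W : X.Opens) (hU : IsAffineOpen U) (hW : IsAffineOpen W) (h : W ≤ U) (ha : U ≤ V a)
    (hb : U ≤ V b), resR ξ h ≫ (τ a b W hW (h.trans ha) (h.trans hb)).φ = (τ a b U hU ha hb).φ ≫ resR ξ h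

variable {m V} (T : Auto m V)

/-- The transition map. -/
def Auto.trans {U U' : Sub (Fine V)} (h : U' ≤ U) : Γ(ξ.total, imU ξ U.1.toOpens) ⟶ Γ(ξ.total, imU ξ U'.1.toOpens) :=
  resR ξ (Scheme.AffineZariskiSite.toOpens_mono h) ≫
    (T.τ U.2.idx U'.2.idx U'.1.toOpens U'.1.2 ((Scheme.AffineZariskiSite.toOpens_mono h).trans U.2.le) U'.2.le).φ

theorem Auto.trans_comp {U U' U'' : Sub (Fine V)} (h : U' ≤ U) (h' : U'' ≤ U') :
    T.trans h ≫ T.trans h' = T.trans (h'.trans h) := by
  unfold Auto.trans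
  rw [Category.assoc, ← Category.assoc ((T.τ _ _ U'.1.toOpens _ _ _).φ), ← T.nat _ _ _ U''.1.toOpens _ U''.1.2,
    Category.assoc, T.comp, ← Category.assoc]
  congr 1
  simp only [resR, ← Functor.map_comp]
  rfl

/-- The twisted rings. -/
def Auto.fam : SFam x C' (Fine V) where
  R :=
    { obj := fun U => Γ(ξ.total, imU ξ U.unop.1.toOpens)
      map := fun {U U'} h => T.trans h.unop.le
      map_id := fun U => by
        show T.trans _ = _
        unfold Auto.trans
        rw [T.self, Category.comp_id]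
        exact ξ.total.presheaf.map_id _
      map_comp := fun {U U' U''} f g => (T.trans_comp f.unop.le g.unop.le).symm }
  str U := strU ξ (imU ξ U.unop.1.toOpens)
  str_nat h := by
    show _ ≫ T.trans h.unop.le = _
    unfold Auto.trans
    rw [← Category.assoc, strU_res, Loc.str]
  π U := piU ξ U.unop.1.toOpens
  π_nat h := by
    show T.trans h.le ≫ _ = _
    unfold Auto.trans
    rw [Category.assoc, Loc.π, piU_res]
  flat U := (DefGlueLib.toFam ξ).flat (op U.unop.1)
  π_surj U := (DefGlueLib.toFam ξ).π_surj (op U.unop.1)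
  π_str U := (DefGlueLib.toFam ξ).π_str (op U.unop.1)
  ker_π U := (DefGlueLib.toFam ξ).ker_π (op U.unop.1)

variable [Fact (IsSub (Fine V))]

/-- The chart of a twisted extension. -/
abbrev Auto.chart (U : Sub (Fine V)) : Γ(ξ.total, imU ξ U.1.toOpens) ⟶ Γ(T.fam.glue.total, imU T.fam.glue U.1.toOpens) :=
  toGlue T.fam U

theorem Auto.chart_isIso (U : Sub (Fine V)) : IsIso (T.chart U) := inferInstanceAs (IsIso (toGlue T.fam U))

theorem Auto.chart_nat {U U' : Sub (Fine V)} (h : U' ⟶ U) :
    T.chart U ≫ resR T.fam.glue (Scheme.AffineZariskiSite.toOpens_mono h.le) = T.trans h.le ≫ T.chart U' :=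
  (toGlue_nat T.fam h).symm

theorem Auto.exists_mor : ∃ n : DefGlueLib.Mor p T.fam.glue ζ, ∀ U : Sub (Fine V),
    T.chart U ≫ mR n U.1.toOpens = mR m U.1.toOpens := by
  haveI := fun U => T.chart_isIso U
  obtain ⟨n, hn⟩ := exists_mor_of_local (g := p) (Fact.out (p := IsSub (Fine V)))
    (fun U => inv (T.chart U) ≫ mR m U.1.toOpens) (fun {U U'} h => by
      rw [← cancel_epi (T.chart U), ← Category.assoc, T.chart_nat h, Category.assoc, IsIso.hom_inv_id_assoc,
        ← Category.assoc (T.chart U), IsIso.hom_inv_id_assoc]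
      unfold Auto.trans
      rw [Category.assoc, Loc.comm, mR_res])
    (fun U => by
      rw [← toGlue_str T.fam U, Category.assoc, IsIso.hom_inv_id_assoc]
      exact mR_str m U.1.2)
    (fun U => by
      rw [Category.assoc, IsIso.inv_comp_eq]
      exact (show mR m U.1.toOpens ≫ piU ζ U.1.toOpens = piU ξ U.1.toOpens by
        simp [piU, Scheme.Hom.appLE_comp_appLE, m.i]).trans (toGlue_π T.fam U).symm)
  refine ⟨n, fun U => ?_⟩
  show T.chart U ≫ n.ψ.appLE _ _ _ = _
  rw [hn U, IsIso.hom_inv_id_assoc]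

/-- The twisted extension. -/
abbrev Auto.twist : DefSch X x C' := T.fam.glue

/-- The twisted extension maps to the deformation. -/
def Auto.mor : DefGlueLib.Mor p T.twist ζ := T.exists_mor.choose

theorem Auto.chart_mor (U : Sub (Fine V)) : T.chart U ≫ mR T.mor U.1.toOpens = mR m U.1.toOpens :=
  T.exists_mor.choose_spec U

/-- The local isomorphism on a fine open. -/
def Auto.loc (U : Sub (Fine V)) : Loc m T.mor U.1.toOpens where
  φ := T.chart U
  str := toGlue_str T.fam U
  π := toGlue_π T.fam U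
  comm := T.chart_mor U

variable (hV : ∀ a, IsAffineOpen (V a))

/-- The site object of a member. -/
def memb (a : ι) : Sub (Fine V) := ⟨⟨V a, hV a⟩, a, le_rfl⟩

/-- The local isomorphism on a member. -/
def Auto.locMem (a : ι) : Loc m T.mor (V a) :=
  (T.τ a (memb hV a).2.idx (V a) (hV a) le_rfl (memb hV a).2.le).comp (T.loc (memb hV a))

theorem Auto.locMem_res (a : ι) {W : Sub (Fine V)} (h : W ⟶ memb hV a) :
    (T.locMem hV a).res (hV a) W.1.2 (Scheme.AffineZariskiSite.toOpens_mono h.le) =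
      (T.τ a W.2.idx W.1.toOpens W.1.2 (Scheme.AffineZariskiSite.toOpens_mono h.le) W.2.le).comp (T.loc W) := by
  refine Loc.res_unique (hV a) W.1.2 _ _ _ ?_
  show resR ξ _ ≫ (T.τ _ _ _ _ _ _).φ ≫ T.chart W = ((T.τ _ _ _ _ _ _).φ ≫ T.chart (memb hV a)) ≫ _
  rw [Category.assoc]
  refine Eq.trans ?_ (congrArg (_ ≫ ·) (T.chart_nat h).symm)
  unfold Auto.trans
  simp only [← Category.assoc]
  refine congrArg (· ≫ T.chart W) ?_
  rw [← T.nat a (memb hV a).2.idx (memb hV a).1.toOpens W.1.toOpens (hV a) W.1.2, Category.assoc, T.comp]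

end Groth.Agent.DefExtLib
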